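import Cfsg.Agent.ClassicalGeometry.OmegaIndex
import Cfsg.Agent.ClassicalGeometry.NegOneOmega
import Cfsg.Agent.LieClassical.OmegaReindex
import Mathlib
import Cfsg.Agent.LieClassical.OrthFourCommon
import Cfsg.Prelude.Def_GeometricClasses
import Cfsg.Agent.H914.Sub
import Mathlib.LinearAlgebra.Matrix.CharP
import Mathlib.GroupTheory.Sylow
import Cfsg.Agent.H453.OddM.Real_m3
import Cfsg.Agent.H610.TableAlt_m3
import Cfsg.Agent.H376.SpEmb
import Cfsg.Agent.LieClassical.HermGen
import Cfsg.Agent.ClassicalGeometry.UnitTransv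
import Cfsg.Agent.SporadicRecognition.CoxPres
import Cfsg.Agent.H160.QFinal
import Cfsg.Agent.H955.QCount
import Cfsg.Agent.H23.FreeAct
import Cfsg.Agent.FastGrp
import Cfsg.Agent.Prune
set_option linter.all false

section
prune_inst 0x7f00000000000000000000000000000000000000000000000000000000000000000000000000000000000000000000000000000000000000000000000000000000000000000000000000000000000000003fffffffffffffffffffffffffffbeffbdffffffff

-- part: H907/Odm/Core
section
set_option linter.all false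
open scoped Cfsg.Agent.FastGrp

/-!
# A real unipotent element of `Ω_{2m}^ε(q)`, `q` and `m` odd, without nonsingular eigenvectors (TEAM ODDM, C8)
-/

set_option autoImplicit false
set_option linter.unusedSectionVars false

namespace Cfsg.Agent.H907.Odm

open QuadraticMap Matrix Cfsg.Agent.ClassicalGeometry.Reflection
open Cfsg.Agent.ClassicalGeometry.SpinorSign Cfsg.Agent.ClassicalGeometry.Universal
open Cfsg.Agent.ClassicalGeometry.OmegaIndex

section iso

variable {ι : Type} [Fintype ι] [DecidableEq ι] {F : Type*} [Field F]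

/-- an isometry from a linear equivalence -/
def mkIso (Q : (ι → F) → F) (L : (ι → F) ≃ₗ[F] (ι → F)) (h : ∀ v, Q (L v) = Q v) : Cfsg.isometryGroup F Q :=
  ⟨⟨LinearMap.toMatrix' (L : (ι → F) →ₗ[F] (ι → F)), LinearMap.toMatrix' (L.symm : (ι → F) →ₗ[F] (ι → F)), by
      rw [← LinearMap.toMatrix'_comp, LinearEquiv.comp_coe, LinearEquiv.symm_trans_self]
      exact LinearMap.toMatrix'_id, by
      rw [← LinearMap.toMatrix'_comp, LinearEquiv.comp_coe, LinearEquiv.self_trans_symm]
      exact LinearMap.toMatrix'_id⟩, (mem_isometryGroup_iff _ _).2 fun x => by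
        change Q (LinearMap.toMatrix' (L : (ι → F) →ₗ[F] (ι → F)) *ᵥ x) = Q x
        rw [LinearMap.toMatrix'_mulVec]
        exact h x⟩

theorem mkIso_mulVec (Q : (ι → F) → F) (L : (ι → F) ≃ₗ[F] (ι → F)) (h : ∀ v, Q (L v) = Q v) (v : ι → F) :
    ((mkIso Q L h : Matrix.GeneralLinearGroup ι F) : Matrix ι ι F) *ᵥ v = L v := by
  change LinearMap.toMatrix' (L : (ι → F) →ₗ[F] (ι → F)) *ᵥ v = L v
  rw [LinearMap.toMatrix'_mulVec]
  rfl

theorem det_mkIso (Q : (ι → F) → F) (L : (ι → F) ≃ₗ[F] (ι → F)) (h : ∀ v, Q (L v) = Q v) :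
    ((mkIso Q L h : Matrix.GeneralLinearGroup ι F) : Matrix ι ι F).det = LinearMap.det (L : (ι → F) →ₗ[F] (ι → F)) :=
  LinearMap.det_toMatrix' _

end iso

section crit

variable {ι : Type} [Fintype ι] [DecidableEq ι] {F : Type*} [Field F] [Finite F]

/-- squares of elements conjugate to their inverse lie in `Ω` -/
theorem sq_mem_Omega (h2 : (2 : F) ≠ 0) (Q : QuadraticForm F (ι → F))
    (hQ : (QuadraticMap.polarBilin Q).Nondegenerate) (hn : 2 ≤ Fintype.card ι) {w g : Cfsg.isometryGroup F (⇑Q)}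
    (hg : g * w * g⁻¹ = w⁻¹) : w * w ∈ Cfsg.Omega F (⇑Q) := by
  rw [mem_Omega_iff h2 Q hQ hn one_ne_zero]
  let d : Cfsg.isometryGroup F (⇑Q) →* Fˣ :=
    Matrix.GeneralLinearGroup.det.comp (Cfsg.isometryGroup F (⇑Q)).subtype
  constructor
  · have h1 := congrArg d hg
    rw [map_mul, map_mul, map_inv, map_inv, mul_comm (d g), mul_assoc, mul_inv_cancel, mul_one] at h1
    have h3 : d (w * w) = 1 := by rw [map_mul, eq_inv_iff_mul_eq_one.1 h1]
    exact congrArg Units.val h3
  · rw [map_mul]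
    exact Int.units_mul_self _

/-- The criterion. -/
theorem real_crit (h2 : (2 : F) ≠ 0) (Q : QuadraticForm F (ι → F))
    (hQ : (QuadraticMap.polarBilin Q).Nondegenerate) (hn : 2 ≤ Fintype.card ι) {w g h : Cfsg.isometryGroup F (⇑Q)}
    (hg : g * w * g⁻¹ = w⁻¹) (hgd : ((g : Matrix.GeneralLinearGroup ι F) : Matrix ι ι F).det = 1)
    (hhd : ((h : Matrix.GeneralLinearGroup ι F) : Matrix ι ι F).det = 1) (hhs : spinorSign (⇑Q) (1 : F) h = -1)
    (hc : h * w = w * h) :
    w * w ∈ Cfsg.Omega F (⇑Q) ∧ ∃ x ∈ Cfsg.Omega F (⇑Q), x * (w * w) * x⁻¹ = (w * w)⁻¹ := by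
  refine ⟨sq_mem_Omega h2 Q hQ hn hg, ?_⟩
  have hsq : ∀ x : Cfsg.isometryGroup F (⇑Q), x * w * x⁻¹ = w⁻¹ → x * (w * w) * x⁻¹ = (w * w)⁻¹ := by
    intro x hx
    have e : x * (w * w) * x⁻¹ = (x * w * x⁻¹) * (x * w * x⁻¹) := by group
    rw [e, hx, _root_.mul_inv_rev]
  rcases Int.units_eq_one_or (spinorSign (⇑Q) (1 : F) g) with h1 | h1
  · exact ⟨g, (mem_Omega_iff h2 Q hQ hn one_ne_zero g).2 ⟨hgd, h1⟩, hsq g hg⟩
  · refine ⟨g * h, (mem_Omega_iff h2 Q hQ hn one_ne_zero _).2 ⟨?_, ?_⟩, hsq _ ?_⟩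
    · rw [Subgroup.coe_mul, Units.val_mul, Matrix.det_mul, hgd, hhd, one_mul]
    · rw [map_mul, h1, hhs]; rfl
    · have e : g * h * w * (g * h)⁻¹ = g * (h * w * h⁻¹) * g⁻¹ := by group
      rw [e, hc, mul_inv_cancel_right, hg]

end crit

end Cfsg.Agent.H907.Odm
end

-- part: H210/DoRes/Proj_mg
section
set_option linter.all false
open scoped Cfsg.Agent.FastGrp

-- part: H210/DoRes/Weights
section
/-!
# Weight spaces of commuting involutions (helper210, task 3652 of S4785)

`c : κ → End V` pairwise commuting linear involutions, `2 ≠ 0`: `V` is the direct sum of the weight spaces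
`W c J = {v | c i v = -v (i ∈ J), c i v = v (i ∉ J)}`, `J` a finite subset of `κ`.
-/

set_option autoImplicit false

namespace Cfsg.Agent.H210.DoRes

open Module Finset

section weights

variable {F V κ : Type*} [Field F] [AddCommGroup V] [Module F V] [DecidableEq κ]

/-- weight space -/
def W (c : κ → V →ₗ[F] V) (J : Finset κ) : Submodule F V where
  carrier := {v | ∀ i, c i v = if i ∈ J then -v else v}
  add_mem' := by
    intro u v hu hv i
    rw [map_add, hu i, hv i]
    split_ifs <;> abel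
  zero_mem' := by
    intro i; simp
  smul_mem' := by
    intro a v hv i
    rw [map_smul, hv i]
    split_ifs <;> simp

variable {c : κ → V →ₗ[F] V} {J : Finset κ} {v : V}

theorem W_neg (h : v ∈ W c J) {i : κ} (hi : i ∈ J) : c i v = -v := by
  rw [h i, if_pos hi]

theorem W_pos (h : v ∈ W c J) {i : κ} (hi : i ∉ J) : c i v = v := by
  rw [h i, if_neg hi]

theorem iSup_W [Fintype κ] (h2 : (2 : F) ≠ 0) (hc : ∀ i v, c i (c i v) = v)
    (hcc : ∀ i j v, c i (c j v) = c j (c i v)) : ⨆ J, W c J = ⊤ := by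
  classical
  have key : ∀ (t : Finset κ) (v : V), (∀ i, i ∉ t → c i v = v ∨ c i v = -v) → v ∈ ⨆ J, W c J := by
    intro t
    induction t using Finset.induction_on with
    | empty =>
      intro v hv
      refine Submodule.mem_iSup_of_mem (Finset.univ.filter fun i => c i v = -v) ?_
      intro i
      by_cases h : c i v = -v
      · rw [if_pos (by simp only [h, _root_.Finset.mem_filter, _root_.Finset.mem_univ, _root_.and_self]), h]
      · rw [if_neg (by simp only [h, _root_.Finset.mem_filter, _root_.Finset.mem_univ, _root_.and_false, _root_.not_false_eq_true])]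
        exact (hv i (by simp)).resolve_right h
    | insert j t hj ih =>
      intro v hv
      have e : v = (2 : F)⁻¹ • (v + c j v) + (2 : F)⁻¹ • (v - c j v) := by
        rw [← smul_add]
        have : v + c j v + (v - c j v) = (2 : F) • v := by rw [two_smul]; abel
        rw [this, smul_smul, inv_mul_cancel₀ h2, one_smul]
      rw [e]
      refine Submodule.add_mem _ (Submodule.smul_mem _ _ (ih _ fun i hi => ?_))
        (Submodule.smul_mem _ _ (ih _ fun i hi => ?_))
      · by_cases hij : i = j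
        · left
          rw [hij, map_add, hc, add_comm]
        · rcases hv i (by simp [hij, hi]) with h | h
          · left; rw [map_add, hcc, h]
          · right; rw [map_add, hcc, h, map_neg]; abel
      · by_cases hij : i = j
        · right
          rw [hij, map_sub, hc]; abel
        · rcases hv i (by simp [hij, hi]) with h | h
          · left; rw [map_sub, hcc, h]
          · right; rw [map_sub, hcc, h, map_neg]; abel
  exact eq_top_iff.2 fun v _ => key Finset.univ v fun i hi => absurd (Finset.mem_univ i) hi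

theorem indep_W (h2 : (2 : F) ≠ 0) (hcc : ∀ i j v, c i (c j v) = c j (c i v)) : iSupIndep (W c) := by
  have hne : (-1 : F) ≠ 1 := fun h => h2 (by
    have : (2 : F) = 1 - -1 := by norm_num
    rw [this, h, sub_self])
  have h := Module.End.independent_iInf_maxGenEigenspace_of_forall_mapsTo c (fun i j φ =>
    Module.End.mapsTo_maxGenEigenspace_of_comm (show Commute (c j) (c i) from
      LinearMap.ext fun v => hcc j i v) φ)
  have h' := h.comp (f := fun (J : Finset κ) (i : κ) => if i ∈ J then (-1 : F) else 1) (by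
    intro J J' hJ
    ext i
    have := congrFun hJ i
    simp only at this
    by_cases h1 : i ∈ J <;> by_cases h3 : i ∈ J' <;> simp [h1, h3] at this ⊢
    · exact hne this
    · exact hne this.symm)
  refine h'.mono fun J v hv => ?_
  show v ∈ ⨅ i, Module.End.maxGenEigenspace (c i) (if i ∈ J then (-1 : F) else 1)
  rw [Submodule.mem_iInf]
  intro i
  have h3 : v ∈ Module.End.eigenspace (c i) (if i ∈ J then (-1 : F) else 1) := by
    rw [Module.End.mem_eigenspace_iff, hv i]
    split_ifs <;> simp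
  exact Module.End.genEigenspace_le_maximal _ _ 1 h3

/-- the weight spaces contained in `U` -/
theorem sum_le [FiniteDimensional F V] [Fintype κ] (h2 : (2 : F) ≠ 0)
    (hcc : ∀ i j v, c i (c j v) = c j (c i v)) (T : Finset (Finset κ)) (U : Submodule F V)
    (hU : ∀ J ∈ T, W c J ≤ U) : ∑ J ∈ T, finrank F (W c J) ≤ finrank F U := by
  classical
  have hi := indep_W h2 hcc
  have key : ∀ T : Finset (Finset κ), finrank F (T.sup (W c) : Submodule F V) = ∑ J ∈ T, finrank F (W c J) := by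
    intro T
    induction T using Finset.induction_on with
    | empty => simp only [_root_.Finset.sum_empty, _root_.Submodule.finrank_eq_zero, _root_.Finset.sup_empty]
    | insert J T hJ ih =>
      rw [Finset.sup_insert, Finset.sum_insert hJ, ← ih]
      have h1 := Submodule.finrank_sup_add_finrank_inf_eq (W c J) (T.sup (W c))
      have h3 : W c J ⊓ T.sup (W c) = ⊥ := by
        rw [← disjoint_iff]
        refine (hi J).mono_right (Finset.sup_le fun K hK => ?_)
        exact le_iSup₂_of_le K (fun h => hJ (h ▸ hK)) le_rfl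
      rw [h3, finrank_bot, add_zero] at h1
      exact h1
  rw [← key]
  exact Submodule.finrank_mono (Finset.sup_le hU)

theorem sum_eq [FiniteDimensional F V] [Fintype κ] (h2 : (2 : F) ≠ 0) (hc : ∀ i v, c i (c i v) = v)
    (hcc : ∀ i j v, c i (c j v) = c j (c i v)) : ∑ J : Finset κ, finrank F (W c J) = finrank F V := by
  classical
  have hi := indep_W h2 hcc
  have hs := iSup_W h2 hc hcc
  have key : ∀ T : Finset (Finset κ), finrank F (T.sup (W c) : Submodule F V) = ∑ J ∈ T, finrank F (W c J) := by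
    intro T
    induction T using Finset.induction_on with
    | empty => simp only [_root_.Finset.sum_empty, _root_.Submodule.finrank_eq_zero, _root_.Finset.sup_empty]
    | insert J T hJ ih =>
      rw [Finset.sup_insert, Finset.sum_insert hJ, ← ih]
      have h1 := Submodule.finrank_sup_add_finrank_inf_eq (W c J) (T.sup (W c))
      have h3 : W c J ⊓ T.sup (W c) = ⊥ := by
        rw [← disjoint_iff]
        refine (hi J).mono_right (Finset.sup_le fun K hK => ?_)
        exact le_iSup₂_of_le K (fun h => hJ (h ▸ hK)) le_rfl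
      rw [h3, finrank_bot, add_zero] at h1
      exact h1
  rw [← key, Finset.sup_univ_eq_iSup, hs, finrank_top]

/-- an invertible map permuting the `c i` up to sign moves the weight spaces -/
theorem finrank_W_eq {g : V ≃ₗ[F] V} {J J' : Finset κ} (h : ∀ v, v ∈ W c J ↔ g v ∈ W c J') :
    finrank F (W c J) = finrank F (W c J') := by
  have e : (W c J).map (g : V →ₗ[F] V) = W c J' := by
    ext w
    constructor
    · rintro ⟨v, hv, rfl⟩
      exact (h v).1 hv
    · intro hw
      refine ⟨g.symm w, (h _).2 (by simpa using hw), by simp⟩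
  rw [← e]
  exact (LinearEquiv.finrank_eq (g.submoduleMap (W c J)))

theorem mem_W_perm {g : V ≃ₗ[F] V} {σ : Equiv.Perm κ} (hg : ∀ i v, g (c i v) = c (σ i) (g v)) (J : Finset κ) (v : V) :
    v ∈ W c J ↔ g v ∈ W c (J.map σ.toEmbedding) := by
  constructor
  · intro hv i
    obtain ⟨j, rfl⟩ := σ.surjective i
    rw [← hg, hv j]
    by_cases h : j ∈ J
    · rw [if_pos h, if_pos (by simpa using h), map_neg]
    · rw [if_neg h, if_neg (by simpa using h)]
  · intro hv i
    apply g.injective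
    rw [hg, hv (σ i)]
    by_cases h : i ∈ J
    · rw [if_pos h, if_pos (by simpa using h), map_neg]
    · rw [if_neg h, if_neg (by simpa using h)]

/-- an invertible map which inverts exactly `c j` moves `W c J` to `W c (J ∆ {j})` -/
theorem mem_W_flip {g : V ≃ₗ[F] V} {j : κ} (hg : ∀ i, i ≠ j → ∀ v, g (c i v) = c i (g v))
    (hgj : ∀ v, g (c j v) = - c j (g v)) {J : Finset κ} (hj : j ∉ J) (v : V) :
    v ∈ W c J ↔ g v ∈ W c (insert j J) := by
  constructor
  · intro hv i
    by_cases hij : i = j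
    · subst hij
      rw [if_pos (Finset.mem_insert_self _ _), ← neg_eq_iff_eq_neg, ← hgj, W_pos hv hj]
    · rw [← hg i hij, hv i]
      by_cases h : i ∈ J
      · rw [if_pos h, if_pos (by simp [h]), map_neg]
      · rw [if_neg h, if_neg (by simp [h, hij])]
  · intro hv i
    apply g.injective
    by_cases hij : i = j
    · subst hij
      rw [hgj, W_neg hv (Finset.mem_insert_self _ _), neg_neg, if_neg hj]
    · rw [hg i hij, hv i]
      by_cases h : i ∈ J
      · rw [if_pos h, if_pos (by simp [h]), map_neg]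
      · rw [if_neg h, if_neg (by simp [h, hij])]

/-- all signs flipped independently: `2 ^ |κ| ∣ dim V` -/
theorem two_pow_dvd [FiniteDimensional F V] [Fintype κ] (h2 : (2 : F) ≠ 0) (hc : ∀ i v, c i (c i v) = v)
    (hcc : ∀ i j v, c i (c j v) = c j (c i v)) (s : κ → V ≃ₗ[F] V)
    (hs : ∀ i j, i ≠ j → ∀ v, s j (c i v) = c i (s j v)) (hsj : ∀ j v, s j (c j v) = - c j (s j v)) :
    2 ^ Fintype.card κ ∣ finrank F V := by
  classical
  have h : ∀ J, finrank F (W c J) = finrank F (W c ∅) := by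
    intro J
    induction J using Finset.induction_on with
    | empty => rfl
    | insert j J hj ih =>
      rw [← ih]
      exact (finrank_W_eq (g := s j) (mem_W_flip (fun i hi v => hs i j hi v) (hsj j) hj)).symm
  rw [← sum_eq h2 hc hcc, Finset.sum_congr rfl fun J _ => h J, Finset.sum_const, Finset.card_univ,
    Fintype.card_finset, smul_eq_mul]
  exact Dvd.intro _ rfl

/-- anticommuting injective maps: the dimension is even -/
theorem even_of_anticomm {U : Type*} [AddCommGroup U] [Module F U] [FiniteDimensional F U] (h2 : (2 : F) ≠ 0)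
    {a b : U →ₗ[F] U} (ha : Function.Injective a) (hb : Function.Injective b) (hab : ∀ v, a (b v) = -b (a v)) :
    Even (finrank F U) := by
  have hda : LinearMap.det a ≠ 0 := fun h =>
    (LinearMap.bot_lt_ker_of_det_eq_zero h).ne' (LinearMap.ker_eq_bot.2 ha)
  have hdb : LinearMap.det b ≠ 0 := fun h =>
    (LinearMap.bot_lt_ker_of_det_eq_zero h).ne' (LinearMap.ker_eq_bot.2 hb)
  by_contra ho
  rw [Nat.not_even_iff_odd] at ho
  have h1 : LinearMap.det (a * b) = LinearMap.det ((-1 : F) • (b * a)) := by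
    congr 1
    ext v
    rw [Module.End.mul_apply, hab, neg_one_smul, LinearMap.neg_apply, Module.End.mul_apply]
  rw [LinearMap.det_smul, ho.neg_one_pow, map_mul, map_mul] at h1
  have h4 : (2 : F) * (LinearMap.det a * LinearMap.det b) = 0 := by linear_combination h1
  rcases mul_eq_zero.1 h4 with h | h
  · exact h2 h
  · exact mul_ne_zero hda hdb h

theorem even_sub {U : Submodule F V} [FiniteDimensional F V] (h2 : (2 : F) ≠ 0)
    {a b : V →ₗ[F] V} (ha : Function.Injective a) (hb : Function.Injective b)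
    (haU : ∀ v ∈ U, a v ∈ U) (hbU : ∀ v ∈ U, b v ∈ U) (hab : ∀ v ∈ U, a (b v) = -b (a v)) :
    Even (finrank F U) := by
  refine even_of_anticomm h2 (a := a.restrict haU) (b := b.restrict hbU) ?_ ?_ ?_
  · intro x y hxy
    exact Subtype.ext (ha (congrArg Subtype.val hxy))
  · intro x y hxy
    exact Subtype.ext (hb (congrArg Subtype.val hxy))
  · intro v
    exact Subtype.ext (hab v v.2)

/-- two commuting pairs of anticommuting maps: the dimension is divisible by `4` -/
theorem four_dvd {U : Type*} [AddCommGroup U] [Module F U] [FiniteDimensional F U] (h2 : (2 : F) ≠ 0)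
    {a b a' b' : U ≃ₗ[F] U} {ζ : F} (hζ : ζ ≠ 0) (haa : ∀ v, a (a' (a (a' v))) = (ζ * ζ) • v)
    (hab : ∀ v, a (b v) = -b (a v)) (hab' : ∀ v, a' (b' v) = -b' (a' v))
    (h1 : ∀ v, a (a' v) = a' (a v)) (h3 : ∀ v, a (b' v) = b' (a v)) (h4 : ∀ v, a' (b v) = b (a' v)) :
    4 ∣ finrank F U := by
  classical
  set t : U →ₗ[F] U := ζ⁻¹ • ((a : U →ₗ[F] U) ∘ₗ (a' : U →ₗ[F] U)) with ht
  have htv : ∀ v, t v = ζ⁻¹ • a (a' v) := fun v => rfl
  have htt : ∀ v, t (t v) = v := by
    intro v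
    rw [htv, htv, map_smul, map_smul, haa, smul_smul, smul_smul, ← mul_inv, inv_mul_cancel₀ (mul_ne_zero hζ hζ),
      one_smul]
  have htb : ∀ v, b (t v) = - t (b v) := by
    intro v
    rw [htv, htv, map_smul, h4, hab, smul_neg, neg_neg]
  have htb' : ∀ v, b' (t v) = - t (b' v) := by
    intro v
    rw [htv, htv, map_smul, hab', map_neg, h3, smul_neg, neg_neg]
  set c : Unit → U →ₗ[F] U := fun _ => t with hcdef
  have hs := sum_eq (c := c) h2 (fun _ v => htt v) (fun _ _ v => rfl)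
  have hu : (Finset.univ : Finset (Finset Unit)) = {∅, {()}} := by decide
  rw [hu, Finset.sum_pair (by decide)] at hs
  have he : finrank F (W c ∅) = finrank F (W c {()}) :=
    finrank_W_eq (g := b) (mem_W_flip (fun i hi v => absurd rfl hi) (j := ()) htb (by simp only [_root_.Finset.notMem_empty, _root_.not_false_eq_true]))
  have hev : Even (finrank F (W c ∅)) := by
    refine even_sub h2 (a := (a : U →ₗ[F] U)) (b := (b : U →ₗ[F] U) ∘ₗ (b' : U →ₗ[F] U)) a.injective
      (b.injective.comp b'.injective) ?_ ?_ ?_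
    · intro v hv i
      have hv' : t v = v := by simpa only [_root_.Finset.notMem_empty, ↓ _root_.reduceIte] using hv i
      rw [if_neg (by simp only [_root_.Finset.notMem_empty, _root_.not_false_eq_true])]
      show t (a v) = a v
      conv_rhs => rw [← hv']
      rw [htv, htv, map_smul, h1 v]
    · intro v hv i
      have hv' : t v = v := by simpa only [_root_.Finset.notMem_empty, ↓ _root_.reduceIte] using hv i
      rw [if_neg (by simp only [_root_.Finset.notMem_empty, _root_.not_false_eq_true])]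
      show t (b (b' v)) = b (b' v)
      conv_rhs => rw [← hv']
      rw [htb', map_neg, htb, neg_neg]
    · intro v _
      show a (b (b' v)) = - b (b' (a v))
      rw [hab, h3]
  obtain ⟨k, hk⟩ := hev
  rw [← hs, ← he, hk]
  exact ⟨k, by ring⟩

theorem four_dvd_sub {U : Submodule F V} [FiniteDimensional F V] (h2 : (2 : F) ≠ 0)
    {a b a' b' : V ≃ₗ[F] V} {ζ : F} (hζ : ζ ≠ 0)
    (haU : ∀ v ∈ U, a v ∈ U) (hbU : ∀ v ∈ U, b v ∈ U) (haU' : ∀ v ∈ U, a' v ∈ U) (hbU' : ∀ v ∈ U, b' v ∈ U)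
    (haa : ∀ v ∈ U, a (a' (a (a' v))) = (ζ * ζ) • v)
    (hab : ∀ v ∈ U, a (b v) = -b (a v)) (hab' : ∀ v ∈ U, a' (b' v) = -b' (a' v))
    (h1 : ∀ v ∈ U, a (a' v) = a' (a v)) (h3 : ∀ v ∈ U, a (b' v) = b' (a v)) (h4 : ∀ v ∈ U, a' (b v) = b (a' v)) :
    4 ∣ finrank F U := by
  have inj : ∀ (g : V ≃ₗ[F] V) (hg : ∀ v ∈ U, (g : V →ₗ[F] V) v ∈ U), Function.Injective ((g : V →ₗ[F] V).restrict hg) :=
    fun g hg x y hxy => Subtype.ext (g.injective (congrArg Subtype.val hxy))
  exact four_dvd h2 (a := LinearEquiv.ofInjectiveEndo _ (inj a haU)) (b := LinearEquiv.ofInjectiveEndo _ (inj b hbU))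
    (a' := LinearEquiv.ofInjectiveEndo _ (inj a' haU')) (b' := LinearEquiv.ofInjectiveEndo _ (inj b' hbU')) hζ
    (fun v => Subtype.ext (haa v v.2)) (fun v => Subtype.ext (hab v v.2)) (fun v => Subtype.ext (hab' v v.2))
    (fun v => Subtype.ext (h1 v v.2)) (fun v => Subtype.ext (h3 v v.2)) (fun v => Subtype.ext (h4 v v.2))

/-- a product (along a list) of the `c i` on a weight space -/
theorem list_prod_apply {G : Type*} [Group G] {ρ : G →* (V ≃ₗ[F] V)} {C : κ → G} {J : Finset κ} {v : V}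
    {θ : F} (hv : ∀ i, ρ (C i) v = (if i ∈ J then -θ else θ) • v) (l : List κ) :
    ρ (l.map C).prod v = (l.map fun i => if i ∈ J then -θ else θ).prod • v := by
  induction l with
  | nil => simp only [_root_.List.map_nil, _root_.List.prod_nil, _root_.map_one, _root_.LinearEquiv.coe_one, _root_.id_eq, _root_.one_smul]
  | cons i l ih =>
    rw [List.map_cons, List.prod_cons, map_mul, LinearEquiv.mul_apply, ih, map_smul, hv, smul_smul,
      List.map_cons, List.prod_cons, mul_comm]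

theorem list_prod_sign [Fintype κ] (J : Finset κ) (θ : F) :
    ((Finset.univ : Finset κ).toList.map fun i => if i ∈ J then -θ else θ).prod =
      (-1) ^ J.card * θ ^ Fintype.card κ := by
  rw [Finset.prod_map_toList]
  have : ∀ i : κ, (if i ∈ J then -θ else θ) = (if i ∈ J then (-1 : F) else 1) * θ := by
    intro i; split_ifs <;> ring
  rw [Finset.prod_congr rfl fun i _ => this i, Finset.prod_mul_distrib, Finset.prod_const, Finset.card_univ,
    Finset.prod_ite_mem, Finset.univ_inter, Finset.prod_const]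

end weights

end Cfsg.Agent.H210.DoRes
end

-- part: H210/DoRes/Count
section
/-!
# Counting weight spaces which are permuted by the alternating group (helper210)
-/

set_option autoImplicit false

namespace Cfsg.Agent.H210.DoRes

open Module Finset

section comb

variable {κ : Type*} [DecidableEq κ] [Fintype κ]

theorem exists_perm_map {J J' : Finset κ} (h : J.card = J'.card) :
    ∃ σ : Equiv.Perm κ, J.map σ.toEmbedding = J' := by
  classical
  have e : {x // x ∈ J} ≃ {x // x ∈ J'} := Finset.equivOfCardEq h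
  refine ⟨e.extendSubtype, ?_⟩
  apply Finset.eq_of_subset_of_card_le
  · intro y hy
    rw [Finset.mem_map] at hy
    obtain ⟨x, hx, rfl⟩ := hy
    exact Equiv.extendSubtype_mem e x hx
  · rw [Finset.card_map, h]

theorem exists_alt_map (h3 : 3 ≤ Fintype.card κ) {J J' : Finset κ} (h : J.card = J'.card) :
    ∃ σ ∈ alternatingGroup κ, J.map σ.toEmbedding = J' := by
  classical
  obtain ⟨σ, hσ⟩ := exists_perm_map h
  by_cases hs : σ ∈ alternatingGroup κ
  · exact ⟨σ, hs, hσ⟩
  have hs' : Equiv.Perm.sign σ = -1 := (Int.units_eq_one_or _).resolve_left hs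
  obtain ⟨a, b, hab, hJ⟩ : ∃ a b : κ, a ≠ b ∧ (a ∈ J' ↔ b ∈ J') := by
    by_cases hc : 1 < J'.card
    · obtain ⟨a, ha, b, hb, hab⟩ := Finset.one_lt_card.1 hc
      exact ⟨a, b, hab, by simp [ha, hb]⟩
    · have : 1 < (J'ᶜ).card := by
        rw [Finset.card_compl]; omega
      obtain ⟨a, ha, b, hb, hab⟩ := Finset.one_lt_card.1 this
      rw [Finset.mem_compl] at ha hb
      exact ⟨a, b, hab, by simp [ha, hb]⟩
  refine ⟨Equiv.swap a b * σ, ?_, ?_⟩
  · rw [Equiv.Perm.mem_alternatingGroup, map_mul, hs', Equiv.Perm.sign_swap hab]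
    rfl
  · ext y
    rw [← hσ, Finset.mem_map_equiv, Finset.mem_map_equiv]
    have h1 : ∀ z, (Equiv.swap a b z ∈ J' ↔ z ∈ J') := by
      intro z
      by_cases hza : z = a
      · rw [hza, Equiv.swap_apply_left]; exact hJ.symm
      · by_cases hzb : z = b
        · rw [hzb, Equiv.swap_apply_right]; exact hJ
        · rw [Equiv.swap_apply_of_ne_of_ne hza hzb]
    have h4 := h1 y
    rw [← hσ, Finset.mem_map_equiv, Finset.mem_map_equiv] at h4
    have h5 : (Equiv.swap a b * σ).symm y = σ.symm (Equiv.swap a b y) := by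
      rw [Equiv.symm_apply_eq]
      simp
    rw [h5]
    exact h4

/-- the alternating group is transitive on ordered pairs -/
theorem exists_alt_pair (h4 : 4 ≤ Fintype.card κ) {i j i' j' : κ} (hij : i ≠ j) (hij' : i' ≠ j') :
    ∃ σ ∈ alternatingGroup κ, σ i = i' ∧ σ j = j' := by
  classical
  obtain ⟨σ, h1, h3⟩ : ∃ σ : Equiv.Perm κ, σ i = i' ∧ σ j = j' := by
    refine ⟨Equiv.swap (Equiv.swap i i' j) j' * Equiv.swap i i', ?_, ?_⟩
    · rw [Equiv.Perm.mul_apply, Equiv.swap_apply_left, Equiv.swap_apply_of_ne_of_ne _ hij']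
      intro h
      have := congrArg (Equiv.swap i i') h
      rw [Equiv.swap_apply_right, Equiv.swap_apply_self] at this
      exact hij this
    · rw [Equiv.Perm.mul_apply, Equiv.swap_apply_left]
  by_cases hs : σ ∈ alternatingGroup κ
  · exact ⟨σ, hs, h1, h3⟩
  have hs' : Equiv.Perm.sign σ = -1 := (Int.units_eq_one_or _).resolve_left hs
  obtain ⟨a, b, hab, ha, hb⟩ : ∃ a b : κ, a ≠ b ∧ a ∉ ({i', j'} : Finset κ) ∧ b ∉ ({i', j'} : Finset κ) := by
    have : 1 < (({i', j'} : Finset κ)ᶜ).card := by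
      rw [Finset.card_compl, Finset.card_pair hij']; omega
    obtain ⟨a, ha, b, hb, hab⟩ := Finset.one_lt_card.1 this
    rw [Finset.mem_compl] at ha hb
    exact ⟨a, b, hab, ha, hb⟩
  simp only [Finset.mem_insert, Finset.mem_singleton, not_or] at ha hb
  refine ⟨Equiv.swap a b * σ, ?_, ?_, ?_⟩
  · rw [Equiv.Perm.mem_alternatingGroup, map_mul, hs', Equiv.Perm.sign_swap hab]
    rfl
  · rw [Equiv.Perm.mul_apply, h1, Equiv.swap_apply_of_ne_of_ne (Ne.symm ha.1) (Ne.symm hb.1)]
  · rw [Equiv.Perm.mul_apply, h3, Equiv.swap_apply_of_ne_of_ne (Ne.symm ha.2) (Ne.symm hb.2)]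

end comb

section count

variable {F V κ : Type*} [Field F] [AddCommGroup V] [Module F V]
  [DecidableEq κ] [Fintype κ] {c : κ → V →ₗ[F] V}

theorem finrank_W_of_card (h3 : 3 ≤ Fintype.card κ)
    (hg : ∀ σ ∈ alternatingGroup κ, ∃ g : V ≃ₗ[F] V, ∀ i v, g (c i v) = c (σ i) (g v))
    {J J' : Finset κ} (h : J.card = J'.card) : finrank F (W c J) = finrank F (W c J') := by
  obtain ⟨σ, hσ, rfl⟩ := exists_alt_map h3 h
  obtain ⟨g, hg⟩ := hg σ hσ
  exact finrank_W_eq (mem_W_perm hg J)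

theorem choose_mul_le [FiniteDimensional F V] (h2 : (2 : F) ≠ 0) (hcc : ∀ i j v, c i (c j v) = c j (c i v)) (h3 : 3 ≤ Fintype.card κ)
    (hg : ∀ σ ∈ alternatingGroup κ, ∃ g : V ≃ₗ[F] V, ∀ i v, g (c i v) = c (σ i) (g v))
    (J : Finset κ) : (Fintype.card κ).choose J.card * finrank F (W c J) ≤ finrank F V := by
  have h := sum_le h2 hcc (Finset.powersetCard J.card Finset.univ) ⊤ (fun _ _ => le_top)
  rw [finrank_top] at h
  refine le_trans (le_of_eq ?_) h
  rw [Finset.sum_congr rfl (fun K hK => finrank_W_of_card h3 hg (J' := J) (Finset.mem_powersetCard.1 hK).2),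
    Finset.sum_const, Finset.card_powersetCard, Finset.card_univ, smul_eq_mul]

theorem le_choose {n k : ℕ} (h1 : 1 ≤ k) (hk : k + 1 ≤ n) : n ≤ n.choose k := by
  induction n generalizing k with
  | zero => omega
  | succ n ih =>
    obtain ⟨k, rfl⟩ := Nat.exists_eq_add_of_le' h1
    rw [Nat.choose_succ_succ']
    rcases Nat.eq_or_lt_of_le hk with h | h
    · have : k + 1 = n := by omega
      subst this
      rw [Nat.choose_self, Nat.choose_succ_self_right]
    · rcases Nat.eq_zero_or_pos k with h0 | h0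
      · subst h0
        simp only [_root_.Nat.choose_zero_right, _root_.zero_add, _root_.Nat.choose_one_right, _root_.Order.add_one_le_iff, _root_.lt_add_iff_pos_left, _root_.Order.lt_one_iff]
      · have h4 := ih (k := k) h0 (by omega)
        have h5 : 1 ≤ n.choose (k + 1) := Nat.choose_pos (by omega)
        omega

theorem lt_choose_two {n k : ℕ} (hn : 5 ≤ n) (h1 : 2 ≤ k) (hk : k + 2 ≤ n) : n + 1 < n.choose k := by
  induction n, hn using Nat.le_induction generalizing k with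
  | base =>
    have hk3 : k ≤ 3 := by omega
    interval_cases k <;> decide
  | succ n hn ih =>
    obtain ⟨k, rfl⟩ := Nat.exists_eq_add_of_le' h1
    rw [show k + 2 = (k + 1) + 1 by rfl, Nat.choose_succ_succ']
    rcases Nat.eq_or_lt_of_le hk with h | h
    · have h6 : k + 1 + 1 ≤ n := by omega
      have h5 := ih (k := k + 1) (by omega) (by omega)
      have h4 : 1 ≤ n.choose (k + 1 + 1) := Nat.choose_pos h6
      omega
    · have h5 := ih (k := k + 2) (by omega) (by omega)
      have h4 : 1 ≤ n.choose (k + 1) := Nat.choose_pos (by omega)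
      have : n.choose (k + 2) = n.choose (k + 1 + 1) := rfl
      omega

end count

end Cfsg.Agent.H210.DoRes
end

-- part: H210/DoRes/Proj
section
/-!
# Commutators of lifts in a central extension given by a projective representation (helper210)
-/

set_option autoImplicit false

namespace Cfsg.Agent.H210.DoRes

open Module
open scoped commutatorElement

/-- `G` acts faithfully on `V`, `π : G → S` is surjective and its kernel is the set of elements acting as scalars -/
structure PR {F V G S : Type*} [Field F] [AddCommGroup V] [Module F V] [Group G] [Group S]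
    (ρ : G →* (V ≃ₗ[F] V)) (π : G →* S) : Prop where
  surj : Function.Surjective π
  scal : ∀ g, π g = 1 → ∃ a : F, ∀ v, ρ g v = a • v
  conv : ∀ g (a : F), (∀ v, ρ g v = a • v) → π g = 1
  inj : Function.Injective ρ

namespace PR

variable {F V G S : Type*} [Field F] [AddCommGroup V] [Module F V] [Group G] [Group S]
  {ρ : G →* (V ≃ₗ[F] V)} {π : G →* S}

theorem central (h : PR ρ π) {z : G} (hz : π z = 1) (g : G) : Commute z g := by
  obtain ⟨a, ha⟩ := h.scal z hz
  apply h.inj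
  ext v
  rw [map_mul, map_mul, LinearEquiv.mul_apply, LinearEquiv.mul_apply, ha, ha, map_smul]

/-- a lift -/
noncomputable def sec (h : PR ρ π) (s : S) : G := (h.surj s).choose

theorem π_sec (h : PR ρ π) (s : S) : π (h.sec s) = s := (h.surj s).choose_spec

/-- the commutator of any two lifts -/
noncomputable def cm (h : PR ρ π) (s t : S) : G := ⁅h.sec s, h.sec t⁆

theorem π_cm (h : PR ρ π) (s t : S) : π (h.cm s t) = ⁅s, t⁆ := by
  rw [cm, map_commutatorElement, h.π_sec, h.π_sec]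

theorem exists_mul (_ : PR ρ π) {g g' : G} (hg : π g = π g') : ∃ z, π z = 1 ∧ g = z * g' :=
  ⟨g * g'⁻¹, by rw [map_mul, map_inv, hg, mul_inv_cancel], by rw [inv_mul_cancel_right]⟩

theorem comm_congr (h : PR ρ π) {g g' k k' : G} (hg : π g = π g') (hk : π k = π k') : ⁅g, k⁆ = ⁅g', k'⁆ := by
  obtain ⟨z, hz, rfl⟩ := h.exists_mul hg
  obtain ⟨w, hw, rfl⟩ := h.exists_mul hk
  have cz := h.central hz
  have cw := h.central hw
  rw [commutatorElement_def, commutatorElement_def]
  have e1 : z * g' * (w * k') * (z * g')⁻¹ * (w * k')⁻¹ =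
      z * w * (g' * k' * g'⁻¹ * z⁻¹ * k'⁻¹ * w⁻¹) := by
    rw [mul_inv_rev, mul_inv_rev]
    have : z * g' * (w * k') = z * w * (g' * k') := by
      rw [mul_assoc, ← mul_assoc g' w, ← (cw g').eq]; simp only [mul_assoc]
    rw [this]
    simp only [mul_assoc]
  rw [e1]
  have c1 : Commute z (g' * k' * g'⁻¹) := cz _
  have c2 : Commute w (g' * k' * g'⁻¹ * k'⁻¹) := cw _
  have e2 : g' * k' * g'⁻¹ * z⁻¹ * k'⁻¹ = z⁻¹ * (g' * k' * g'⁻¹ * k'⁻¹) := by
    rw [← c1.inv_left.eq]
    simp only [mul_assoc]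
  rw [e2]
  have e3 : z * w * (z⁻¹ * (g' * k' * g'⁻¹ * k'⁻¹) * w⁻¹) = z * (w * (z⁻¹ * ((g' * k' * g'⁻¹ * k'⁻¹) * w⁻¹))) := by
    simp only [mul_assoc]
  rw [e3, ← c2.inv_left.eq]
  have c3 : Commute w z⁻¹ := cw _
  rw [← mul_assoc w, c3.eq, mul_assoc, mul_inv_cancel_left, mul_inv_cancel_left]

theorem comm_eq_cm (h : PR ρ π) {g k : G} {s t : S} (hg : π g = s) (hk : π k = t) : ⁅g, k⁆ = h.cm s t :=
  h.comm_congr (by rw [hg, h.π_sec]) (by rw [hk, h.π_sec])

theorem conj_cm (h : PR ρ π) (g : G) (s t : S) :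
    g * h.cm s t * g⁻¹ = h.cm (π g * s * (π g)⁻¹) (π g * t * (π g)⁻¹) := by
  have e1 : π (g * h.sec s * g⁻¹) = π g * s * (π g)⁻¹ := by rw [map_mul, map_mul, map_inv, h.π_sec]
  have e2 : π (g * h.sec t * g⁻¹) = π g * t * (π g)⁻¹ := by rw [map_mul, map_mul, map_inv, h.π_sec]
  rw [← h.comm_eq_cm e1 e2, cm, commutatorElement_def, commutatorElement_def]
  group

/-- a lift of an element commuting with `s` and `t` commutes with the commutator of the lifts of `s` and `t` -/
theorem commute_cm (h : PR ρ π) {g : G} {s t : S} (hs : Commute (π g) s) (ht : Commute (π g) t) :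
    Commute g (h.cm s t) := by
  have e := h.conj_cm g s t
  rw [hs.eq, mul_inv_cancel_right, ht.eq, mul_inv_cancel_right] at e
  exact mul_inv_eq_iff_eq_mul.1 e

theorem cm_one_of_commute (h : PR ρ π) {g k : G} (hc : Commute g k) : h.cm (π g) (π k) = 1 := by
  rw [← h.comm_eq_cm rfl rfl]
  exact commutatorElement_eq_one_iff_commute.2 hc

theorem commute_of_cm (h : PR ρ π) {g k : G} (hc : h.cm (π g) (π k) = 1) : Commute g k := by
  rw [← h.comm_eq_cm rfl rfl] at hc
  exact commutatorElement_eq_one_iff_commute.1 hc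

/-- commuting elements: the commutator of lifts is central -/
theorem cm_ker (h : PR ρ π) {s t : S} (hc : Commute s t) : π (h.cm s t) = 1 := by
  rw [h.π_cm, commutatorElement_eq_one_iff_commute.2 hc]

/-- `s² = 1`, `s` and `t` commute: the commutator of the lifts has square `1` -/
theorem cm_sq (h : PR ρ π) {s t : S} (hs : s * s = 1) (hc : Commute s t) : h.cm s t * h.cm s t = 1 := by
  set g := h.sec s with hg
  set k := h.sec t with hk
  have hz : h.cm s t = ⁅g, k⁆ := rfl
  set z := h.cm s t with hzd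
  have cz := h.central (z := z) (h.cm_ker hc)
  have e1 : g * k * g⁻¹ = z * k := by rw [hz, commutatorElement_def]; group
  have e2 : Commute (g * g) k := h.central (by rw [map_mul, h.π_sec, hs]) k
  have e3 : (g * g) * k * (g * g)⁻¹ = z * z * k := by
    calc (g * g) * k * (g * g)⁻¹ = g * (g * k * g⁻¹) * g⁻¹ := by group
      _ = g * (z * k) * g⁻¹ := by rw [e1]
      _ = z * (g * k * g⁻¹) := by rw [← mul_assoc g z, ← (cz g).eq]; group
      _ = z * z * k := by rw [e1, mul_assoc]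
  rw [e2.eq, mul_inv_cancel_right] at e3
  exact (mul_eq_right.1 e3.symm)

end PR

end Cfsg.Agent.H210.DoRes
end

-- part: H210/DoRes/OmGrp
section
/-!
# `Ω` of the form `Σ v_i²`: coordinate elements and generation by stabilisers (helper210)
-/

set_option autoImplicit false
set_option linter.unusedSectionVars false

namespace Cfsg.Agent.H210.DoRes

open Module
open scoped commutatorElement Matrix
open Cfsg.Agent.LieClassical.OrthFourCommon

section omgrp

variable {K κ : Type} [Field K] [Fintype κ]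

/-- the form `Σ v_i²` -/
abbrev QS (K κ : Type) [Field K] [Fintype κ] : (κ → K) → K := fun v => ∑ i, v i ^ 2

theorem QS_eq (v : κ → K) : QS K κ v = v ⬝ᵥ v := by
  simp only [QS, dotProduct, pow_two]

/-- the isometry group -/
abbrev IG (K κ : Type) [Field K] [Fintype κ] : Type := ↥(isom (QS K κ))

instance instCoeFunIG : CoeFun (IG K κ) (fun _ => (κ → K) → (κ → K)) := ⟨fun g => (g : (κ → K) ≃ₗ[K] (κ → K))⟩

theorem IG_ext {g k : IG K κ} (h : ∀ v, g v = k v) : g = k := Subtype.ext (LinearEquiv.ext h)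

theorem IG_mul (g k : IG K κ) (v : κ → K) : (g * k) v = g (k v) := rfl

theorem IG_one (v : κ → K) : (1 : IG K κ) v = v := rfl

theorem IG_inv_apply (g : IG K κ) (v : κ → K) : g⁻¹ (g v) = v := by rw [← IG_mul, inv_mul_cancel, IG_one]

theorem IG_apply_inv (g : IG K κ) (v : κ → K) : g (g⁻¹ v) = v := by rw [← IG_mul, mul_inv_cancel, IG_one]

theorem IG_dot (h2 : (2 : K) ≠ 0) (g : IG K κ) (u v : κ → K) : g u ⬝ᵥ g v = u ⬝ᵥ v := by
  have h := g.2 (u + v)
  have hu := g.2 u
  have hv := g.2 v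
  rw [map_add, QS_eq, QS_eq, add_dotProduct, dotProduct_add, dotProduct_add, add_dotProduct, dotProduct_add,
    dotProduct_add] at h
  rw [QS_eq, QS_eq] at hu hv
  have e : (2 : K) * (g u ⬝ᵥ g v) = 2 * (u ⬝ᵥ v) := by
    have c1 := dotProduct_comm (g v) (g u)
    have c2 := dotProduct_comm v u
    linear_combination h - hu - hv - c1 + c2
  exact mul_left_cancel₀ h2 e

/-- the functional of a reflection -/
noncomputable def fw (w : κ → K) : Module.Dual K (κ → K) where
  toFun v := 2 * (v ⬝ᵥ w) / (w ⬝ᵥ w)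
  map_add' u v := by rw [add_dotProduct]; ring
  map_smul' a v := by rw [smul_dotProduct, smul_eq_mul, RingHom.id_apply, smul_eq_mul]; ring

/-- reflection -/
noncomputable def rr (w : κ → K) : (κ → K) ≃ₗ[K] (κ → K) :=
  open Classical in
  if h : w ⬝ᵥ w ≠ 0 then Module.reflection (x := w) (f := fw w) (by
    show 2 * (w ⬝ᵥ w) / (w ⬝ᵥ w) = 2
    field_simp) else 1

theorem rr_apply (w v : κ → K) : rr w v = v - (2 * (v ⬝ᵥ w) / (w ⬝ᵥ w)) • w := by
  unfold rr
  split_ifs with h
  · rw [Module.reflection_apply]; rfl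
  · rw [not_not] at h
    rw [h, div_zero, zero_smul, sub_zero]; rfl

theorem rr_mem (w : κ → K) : rr w ∈ isom (QS K κ) := by
  intro v
  rw [QS_eq, QS_eq, rr_apply]
  by_cases h : w ⬝ᵥ w = 0
  · rw [h, div_zero, zero_smul, sub_zero]
  · simp only [sub_dotProduct, dotProduct_sub, smul_dotProduct, dotProduct_smul, smul_eq_mul]
    rw [dotProduct_comm w v]
    field_simp
    ring

/-- reflection as an isometry -/
noncomputable def rI (w : κ → K) : IG K κ := ⟨rr w, rr_mem w⟩

theorem rI_apply (w v : κ → K) : rI w v = v - (2 * (v ⬝ᵥ w) / (w ⬝ᵥ w)) • w := rr_apply w v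

theorem rI_fix {w v : κ → K} (h : v ⬝ᵥ w = 0) : rI w v = v := by
  rw [rI_apply, h, mul_zero, zero_div, zero_smul, sub_zero]

theorem rI_self {w : κ → K} (h : w ⬝ᵥ w ≠ 0) : rI w w = -w := by
  rw [rI_apply, mul_div_assoc, div_self h, mul_one, two_smul]; abel

theorem rI_sq (w : κ → K) : rI w * rI w = 1 := by
  refine IG_ext fun v => ?_
  rw [IG_mul, IG_one, rI_apply, rI_apply]
  by_cases h : w ⬝ᵥ w = 0
  · rw [h, div_zero, div_zero, zero_smul, sub_zero, sub_zero]
  · rw [sub_dotProduct, smul_dotProduct, smul_eq_mul]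
    have : 2 * (v ⬝ᵥ w - 2 * (v ⬝ᵥ w) / (w ⬝ᵥ w) * (w ⬝ᵥ w)) / (w ⬝ᵥ w) = -(2 * (v ⬝ᵥ w) / (w ⬝ᵥ w)) := by
      field_simp
      ring
    rw [this, neg_smul, sub_neg_eq_add, sub_add_cancel]

theorem rI_neg (w : κ → K) : rI (-w) = rI w := by
  refine IG_ext fun v => ?_
  rw [rI_apply, rI_apply, dotProduct_neg, neg_dotProduct_neg, smul_neg, mul_neg, neg_div, neg_smul, neg_neg]

theorem rI_conj (h2 : (2 : K) ≠ 0) (g : IG K κ) (w : κ → K) : g * rI w * g⁻¹ = rI (g w) := by
  refine IG_ext fun v => ?_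
  rw [IG_mul, IG_mul, rI_apply, rI_apply, map_sub, map_smul, IG_apply_inv]
  have e : (g⁻¹ v) ⬝ᵥ w = v ⬝ᵥ g w := by
    rw [← IG_dot h2 g, IG_apply_inv]
  rw [e, IG_dot h2]

theorem rI_move {a b : κ → K} (hab : a ⬝ᵥ a = b ⬝ᵥ b) (h : (a - b) ⬝ᵥ (a - b) ≠ 0) : rI (a - b) a = b := by
  rw [rI_apply]
  have e : (a - b) ⬝ᵥ (a - b) = 2 * (a ⬝ᵥ (a - b)) := by
    simp only [sub_dotProduct, dotProduct_sub]
    rw [dotProduct_comm b a, ← hab]; ring
  rw [← e, div_self h, one_smul]; abel

/-- the class in the abelianization -/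
theorem of_sq (w : κ → K) : Abelianization.of (rI w) * Abelianization.of (rI w) = 1 := by
  rw [← map_mul, rI_sq, map_one]

theorem sum_diff (h2 : (2 : K) ≠ 0) {a b : κ → K} (hab : a ⬝ᵥ a = b ⬝ᵥ b) (ha : a ⬝ᵥ a ≠ 0) :
    (a - b) ⬝ᵥ (a - b) ≠ 0 ∨ (a + b) ⬝ᵥ (a + b) ≠ 0 := by
  by_contra hcon
  push Not at hcon
  have e : (a - b) ⬝ᵥ (a - b) + (a + b) ⬝ᵥ (a + b) = 2 * 2 * (a ⬝ᵥ a) := by
    simp only [sub_dotProduct, dotProduct_sub, add_dotProduct, dotProduct_add]
    rw [← hab]; ring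
  rw [hcon.1, hcon.2, add_zero] at e
  exact mul_ne_zero (mul_ne_zero h2 h2) ha e.symm

theorem of_eq (h2 : (2 : K) ≠ 0) {a b : κ → K} (hab : a ⬝ᵥ a = b ⬝ᵥ b) (ha : a ⬝ᵥ a ≠ 0) :
    Abelianization.of (rI a) = Abelianization.of (rI b) := by
  have key : ∀ b : κ → K, a ⬝ᵥ a = b ⬝ᵥ b → (a - b) ⬝ᵥ (a - b) ≠ 0 →
      Abelianization.of (rI a) = Abelianization.of (rI b) := by
    intro b hab h
    rw [← rI_move hab h, ← rI_conj h2, map_mul, map_mul, map_inv, mul_comm (Abelianization.of (rI (a - b))),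
      mul_inv_cancel_right]
  rcases sum_diff h2 hab ha with h | h
  · exact key b hab h
  · rw [← rI_neg b]
    exact key (-b) (by rw [neg_dotProduct_neg, hab]) (by rwa [sub_neg_eq_add])

theorem mem_comm_iff (g : IG K κ) : g ∈ commutator (IG K κ) ↔ Abelianization.of g = 1 := by
  rw [← MonoidHom.mem_ker, Abelianization.ker_of]

end omgrp

section coord

variable {K κ : Type} [Field K] [Fintype κ] [DecidableEq κ]

/-- coordinate vector -/
abbrev ee (K : Type) [Field K] {κ : Type} [DecidableEq κ] (i : κ) : κ → K := Pi.single i 1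

omit [Fintype κ] in
theorem ee_apply (i k : κ) : ee K i k = if k = i then 1 else 0 := Pi.single_apply ..

theorem dot_ee (v : κ → K) (i : κ) : v ⬝ᵥ ee K i = v i := by
  rw [dotProduct_single, mul_one]

theorem ee_dot (v : κ → K) (i : κ) : ee K i ⬝ᵥ v = v i := by
  rw [single_dotProduct, one_mul]

theorem ee_ee (i : κ) : ee K i ⬝ᵥ ee K i = 1 := by
  rw [dot_ee]; exact Pi.single_eq_same i 1

theorem rI_ee (i : κ) (v : κ → K) (k : κ) : rI (ee K i) v k = if k = i then - v k else v k := by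
  rw [rI_apply, dot_ee, ee_ee, div_one, Pi.sub_apply, Pi.smul_apply, smul_eq_mul, ee_apply]
  by_cases h : k = i
  · subst h
    rw [if_pos rfl, if_pos rfl]; ring
  · rw [if_neg h, if_neg h]; ring

/-- `-1` -/
def nI : IG K κ := ⟨LinearEquiv.neg K, fun v => by
  rw [QS_eq, QS_eq]; show (-v) ⬝ᵥ (-v) = _; rw [neg_dotProduct_neg]⟩

theorem nI_apply (v : κ → K) : (nI : IG K κ) v = -v := rfl

theorem nI_sq : (nI : IG K κ) * nI = 1 := IG_ext fun v => by rw [IG_mul, nI_apply, nI_apply, neg_neg, IG_one]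

theorem nI_comm (g : IG K κ) : Commute nI g := IG_ext fun v => by
  rw [IG_mul, IG_mul, nI_apply, nI_apply, map_neg]

/-- `-1` times the reflection in a coordinate vector -/
noncomputable def sI (i : κ) : IG K κ := nI * rI (ee K i)

/-- permutation matrices -/
def pI (K κ : Type) [Field K] [Fintype κ] : Equiv.Perm κ →* IG K κ where
  toFun σ := ⟨LinearEquiv.funCongrLeft K K σ⁻¹, fun v => by
    show ∑ i, v (σ⁻¹ i) ^ 2 = ∑ i, v i ^ 2
    exact Equiv.sum_comp σ⁻¹ fun i => v i ^ 2⟩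
  map_one' := IG_ext fun v => rfl
  map_mul' σ τ := IG_ext fun v => rfl

theorem pI_apply (σ : Equiv.Perm κ) (v : κ → K) (i : κ) : pI K κ σ v i = v (σ⁻¹ i) := rfl

theorem pI_ee (σ : Equiv.Perm κ) (i : κ) : pI K κ σ (ee K i) = ee K (σ i) := by
  funext k
  rw [pI_apply, ee_apply, ee_apply]
  by_cases h : k = σ i
  · rw [if_pos h, if_pos (by rw [h]; simp)]
  · rw [if_neg h, if_neg (fun h' => h (by rw [← h']; simp))]

theorem list_refl (L : List κ) (hL : L.Nodup) (v : κ → K) (k : κ) :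
    (L.map fun i => rI (ee K i)).prod v k = if k ∈ L then - v k else v k := by
  induction L with
  | nil => simp only [_root_.List.map_nil, _root_.List.prod_nil, _root_.OneMemClass.coe_one, _root_.LinearEquiv.coe_one, _root_.id_eq, _root_.List.not_mem_nil, ↓ _root_.reduceIte]
  | cons i L ih =>
    rw [List.nodup_cons] at hL
    rw [List.map_cons, List.prod_cons, IG_mul, rI_ee, ih hL.2]
    by_cases h : k = i
    · subst h
      rw [if_pos rfl, if_neg hL.1, if_pos (by simp)]
    · rw [if_neg h]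
      by_cases h' : k ∈ L
      · rw [if_pos h', if_pos (by simp [h'])]
      · rw [if_neg h', if_neg (by simp [h', h])]

theorem list_refl_univ :
    ((Finset.univ : Finset κ).toList.map fun i => rI (ee K i)).prod = nI := by
  refine IG_ext fun v => funext fun k => ?_
  rw [list_refl _ (Finset.nodup_toList _), if_pos (by simp), nI_apply]; rfl

theorem list_sI (L : List κ) : (L.map fun i => (sI i : IG K κ)).prod = nI ^ L.length * (L.map fun i => rI (ee K i)).prod := by
  induction L with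
  | nil => simp
  | cons i L ih =>
    rw [List.map_cons, List.prod_cons, ih, List.map_cons, List.prod_cons, List.length_cons, pow_succ', sI]
    have := (nI_comm (rI (ee K i))).pow_left L.length
    calc nI * rI (ee K i) * (nI ^ L.length * (L.map fun i => rI (ee K i)).prod)
        = nI * (rI (ee K i) * nI ^ L.length) * (L.map fun i => rI (ee K i)).prod := by simp only [mul_assoc]
      _ = _ := by rw [← this.eq]; simp only [mul_assoc]

theorem list_sI_univ (ho : Odd (Fintype.card κ)) :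
    ((Finset.univ : Finset κ).toList.map fun i => (sI i : IG K κ)).prod = 1 := by
  rw [list_sI, list_refl_univ, Finset.length_toList, Finset.card_univ, ← pow_succ]
  obtain ⟨m, hm⟩ := ho
  rw [hm, show 2 * m + 1 + 1 = 2 * (m + 1) by ring, pow_mul, pow_two, nI_sq, one_pow]

theorem sI_sq (i : κ) : (sI i : IG K κ) * sI i = 1 := by
  have := (nI_comm (rI (ee K i)))
  rw [sI]
  calc nI * rI (ee K i) * (nI * rI (ee K i)) = nI * (rI (ee K i) * nI) * rI (ee K i) := by simp only [mul_assoc]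
    _ = (nI * nI) * (rI (ee K i) * rI (ee K i)) := by rw [← this.eq]; simp only [mul_assoc]
    _ = 1 := by rw [nI_sq, rI_sq, one_mul]

theorem sI_comm (i j : κ) : Commute (sI i : IG K κ) (sI j) := by
  have hr : Commute (rI (ee K i)) (rI (ee K j)) := by
    refine IG_ext fun v => funext fun k => ?_
    rw [IG_mul, IG_mul, rI_ee, rI_ee, rI_ee, rI_ee]
    split_ifs <;> rfl
  rw [sI, sI]
  exact (by with_reducible_and_instances exact (((nI_comm nI).mul_right (nI_comm (rI (ee K j)))).mul_left ((nI_comm (rI (ee K i))).symm.mul_right hr)))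

theorem sI_conj (h2 : (2 : K) ≠ 0) (g : IG K κ) {i j : κ} (h : g (ee K i) = ee K j) : g * sI i * g⁻¹ = sI j := by
  rw [sI, sI, ← h, ← rI_conj h2, ← mul_assoc g, ← (nI_comm g).eq]
  simp only [mul_assoc]

theorem sI_mem (h2 : (2 : K) ≠ 0) (ho : Odd (Fintype.card κ)) (i : κ) : (sI i : IG K κ) ∈ commutator (IG K κ) := by
  rw [mem_comm_iff]
  have key : ∀ L : List κ, Abelianization.of (L.map fun j => (rI (ee K j) : IG K κ)).prod =
      Abelianization.of (rI (ee K i)) ^ L.length := by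
    intro L
    induction L with
    | nil => simp only [_root_.List.map_nil, _root_.List.prod_nil, _root_.map_one, _root_.List.length_nil, _root_.pow_zero]
    | cons j L ih =>
      rw [List.map_cons, List.prod_cons, map_mul, ih, List.length_cons, pow_succ',
        of_eq h2 (b := ee K i) (by rw [ee_ee, ee_ee]) (by rw [ee_ee]; exact one_ne_zero)]
  have h := key (Finset.univ : Finset κ).toList
  rw [list_refl_univ, Finset.length_toList, Finset.card_univ] at h
  rw [sI, map_mul, h, ← pow_succ]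
  obtain ⟨m, hm⟩ := ho
  rw [hm, show 2 * m + 1 + 1 = 2 * (m + 1) by ring, pow_mul, pow_two, of_sq, one_pow]

theorem pI_mem (h5 : 5 ≤ Fintype.card κ) {σ : Equiv.Perm κ} (hσ : σ ∈ alternatingGroup κ) :
    pI K κ σ ∈ commutator (IG K κ) := by
  rw [← alternatingGroup.commutator_perm_eq (by rwa [Nat.card_eq_fintype_card])] at hσ
  have h1 : (commutator (Equiv.Perm κ)).map (pI K κ) ≤ commutator (IG K κ) := by
    rw [commutator_def, commutator_def, Subgroup.map_commutator]
    exact Subgroup.commutator_mono le_top le_top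
  exact h1 (Subgroup.mem_map_of_mem _ hσ)

end coord

section transit

variable {K κ : Type} [Field K] [Fintype K] [Fintype κ] [DecidableEq κ]

theorem exists_binary (h2 : (2 : K) ≠ 0) {A B : K} (hA : A ≠ 0) (hB : B ≠ 0) (N : K) :
    ∃ α β : K, A * α ^ 2 + B * β ^ 2 = N := by
  have hodd : Fintype.card K % 2 = 1 := by
    have := FiniteField.odd_card_of_char_ne_two (F := K) (fun h => h2 (by
      have := CharP.cast_eq_zero K (ringChar K)
      rw [h] at this
      exact_mod_cast this))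
    exact this
  open Polynomial in
  obtain ⟨a, b, hab⟩ := FiniteField.exists_root_sum_quadratic (R := K) (f := C A * X ^ 2 + C 0 * X + C (-N))
    (g := C B * X ^ 2 + C 0 * X + C 0) (degree_quadratic hA) (degree_quadratic hB) hodd
  refine ⟨a, b, ?_⟩
  simp only [_root_.map_zero, _root_.MulZeroClass.zero_mul, _root_.add_zero, _root_.map_neg, _root_.Polynomial.eval_add, _root_.Polynomial.eval_mul, _root_.Polynomial.eval_C, _root_.Polynomial.eval_pow, _root_.Polynomial.eval_X, _root_.Polynomial.eval_neg] at hab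
  linear_combination hab

theorem exists_two_sq (h2 : (2 : K) ≠ 0) (N : K) : ∃ α β : K, α ^ 2 + β ^ 2 = N := by
  obtain ⟨α, β, h⟩ := exists_binary h2 (one_ne_zero (α := K)) one_ne_zero N
  exact ⟨α, β, by rw [← h]; ring⟩

/-- six coordinates: a vector of norm `1` orthogonal to a given one -/
theorem exists_six (h2 : (2 : K) ≠ 0) (u : Fin 6 → K) : ∃ w : Fin 6 → K, w ⬝ᵥ w = 1 ∧ w ⬝ᵥ u = 0 := by
  -- reduction to four coordinates given by two pairs
  have four : ∀ a b c d : K, (a = 0 ∧ b = 0) ∨ (c = 0 ∧ d = 0) ∨ (a ^ 2 + b ^ 2 ≠ 0 ∧ c ^ 2 + d ^ 2 ≠ 0) ∨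
      ((a ^ 2 + b ^ 2 = 0 ∧ a ≠ 0) ∧ (c ^ 2 + d ^ 2 = 0 ∧ c ≠ 0)) →
      ∃ x y z t : K, x ^ 2 + y ^ 2 + z ^ 2 + t ^ 2 = 1 ∧ x * a + y * b + z * c + t * d = 0 := by
    rintro a b c d (⟨rfl, rfl⟩ | ⟨rfl, rfl⟩ | ⟨h, h'⟩ | ⟨⟨h, ha⟩, h', hc⟩)
    · exact ⟨1, 0, 0, 0, by ring, by ring⟩
    · exact ⟨0, 0, 1, 0, by ring, by ring⟩
    · obtain ⟨α, β, e⟩ := exists_binary h2 h h' 1
      exact ⟨-b * α, a * α, -d * β, c * β, by rw [← e]; ring, by ring⟩
    · have hb : b ≠ 0 := by
        rintro rfl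
        apply ha
        have : a ^ 2 = 0 := by linear_combination h
        exact pow_eq_zero_iff (two_ne_zero) |>.1 this
      have hd : d ≠ 0 := by
        rintro rfl
        apply hc
        have : c ^ 2 = 0 := by linear_combination h'
        exact pow_eq_zero_iff (two_ne_zero) |>.1 this
      -- `ε = b / a`, `δ = d / c`
      refine ⟨(c + 1 / c) / 2, (c - 1 / c) / (2 * (b / a)), -a / 2, -a / (2 * (d / c)), ?_, ?_⟩
      · have e1 : b ^ 2 = - a ^ 2 := by linear_combination h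
        have e2 : d ^ 2 = - c ^ 2 := by linear_combination h'
        have e3 : ((c - 1 / c) / (2 * (b / a))) ^ 2 = - ((c - 1 / c) / 2) ^ 2 := by
          rw [div_pow, mul_pow, div_pow b a, e1]
          field_simp
        have e4 : (-a / (2 * (d / c))) ^ 2 = - (a / 2) ^ 2 := by
          rw [div_pow, mul_pow, div_pow d c, e2]
          field_simp
        rw [e3, e4]
        field_simp
        ring
      · have e1 : (c - 1 / c) / (2 * (b / a)) * b = (c - 1 / c) * a / 2 := by field_simp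
        have e2 : -a / (2 * (d / c)) * d = - a * c / 2 := by field_simp
        rw [e1, e2]
        field_simp
        ring
  -- classify the pairs
  have cls : ∀ a b : K, (a = 0 ∧ b = 0) ∨ a ^ 2 + b ^ 2 ≠ 0 ∨ (a ^ 2 + b ^ 2 = 0 ∧ a ≠ 0) := by
    intro a b
    by_cases h : a ^ 2 + b ^ 2 = 0
    · by_cases ha : a = 0
      · left
        refine ⟨ha, ?_⟩
        rw [ha] at h
        have : b ^ 2 = 0 := by linear_combination h
        exact pow_eq_zero_iff (two_ne_zero) |>.1 this
      · exact Or.inr (Or.inr ⟨h, ha⟩)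
    · exact Or.inr (Or.inl h)
  have fin : (∃ x y z t : K, x ^ 2 + y ^ 2 + z ^ 2 + t ^ 2 = 1 ∧ x * u 0 + y * u 1 + z * u 2 + t * u 3 = 0) ∨
      (∃ x y z t : K, x ^ 2 + y ^ 2 + z ^ 2 + t ^ 2 = 1 ∧ x * u 0 + y * u 1 + z * u 4 + t * u 5 = 0) ∨
      (∃ x y z t : K, x ^ 2 + y ^ 2 + z ^ 2 + t ^ 2 = 1 ∧ x * u 2 + y * u 3 + z * u 4 + t * u 5 = 0) := by
    rcases cls (u 0) (u 1) with h0 | h0 | h0
    · exact Or.inl (four _ _ _ _ (Or.inl h0))
    · rcases cls (u 2) (u 3) with h1 | h1 | h1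
      · exact Or.inl (four _ _ _ _ (Or.inr (Or.inl h1)))
      · exact Or.inl (four _ _ _ _ (Or.inr (Or.inr (Or.inl ⟨h0, h1⟩))))
      · rcases cls (u 4) (u 5) with h3 | h3 | h3
        · exact Or.inr (Or.inl (four _ _ _ _ (Or.inr (Or.inl h3))))
        · exact Or.inr (Or.inl (four _ _ _ _ (Or.inr (Or.inr (Or.inl ⟨h0, h3⟩)))))
        · exact Or.inr (Or.inr (four _ _ _ _ (Or.inr (Or.inr (Or.inr ⟨h1, h3⟩)))))
    · rcases cls (u 2) (u 3) with h1 | h1 | h1
      · exact Or.inl (four _ _ _ _ (Or.inr (Or.inl h1)))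
      · rcases cls (u 4) (u 5) with h3 | h3 | h3
        · exact Or.inr (Or.inl (four _ _ _ _ (Or.inr (Or.inl h3))))
        · exact Or.inr (Or.inr (four _ _ _ _ (Or.inr (Or.inr (Or.inl ⟨h1, h3⟩)))))
        · exact Or.inr (Or.inl (four _ _ _ _ (Or.inr (Or.inr (Or.inr ⟨h0, h3⟩)))))
      · exact Or.inl (four _ _ _ _ (Or.inr (Or.inr (Or.inr ⟨h0, h1⟩))))
  rcases fin with ⟨x, y, z, t, h, h'⟩ | ⟨x, y, z, t, h, h'⟩ | ⟨x, y, z, t, h, h'⟩
  · refine ⟨![x, y, z, t, 0, 0], ?_, ?_⟩
    · simp only [dotProduct, Fin.sum_univ_succ, _root_.Fin.isValue, _root_.Matrix.cons_val_zero, _root_.Matrix.cons_val_succ, _root_.MulZeroClass.mul_zero, _root_.Finset.univ_unique, _root_.Fin.default_eq_zero, _root_.Matrix.cons_val_fin_one, _root_.Finset.sum_const_zero, _root_.add_zero]; linear_combination h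
    · simp only [dotProduct, Fin.sum_univ_succ, _root_.Fin.isValue, _root_.Matrix.cons_val_zero, _root_.Matrix.cons_val_succ, _root_.Fin.succ_zero_eq_one, _root_.Fin.succ_one_eq_two, _root_.Fin.reduceSucc, _root_.MulZeroClass.zero_mul, _root_.Finset.univ_unique, _root_.Fin.default_eq_zero, _root_.Matrix.cons_val_fin_one, _root_.Finset.sum_const_zero, _root_.add_zero]; linear_combination h'
  · refine ⟨![x, y, 0, 0, z, t], ?_, ?_⟩
    · simp only [dotProduct, Fin.sum_univ_succ, _root_.Fin.isValue, _root_.Matrix.cons_val_zero, _root_.Matrix.cons_val_succ, _root_.MulZeroClass.mul_zero, _root_.Finset.univ_unique, _root_.Fin.default_eq_zero, _root_.Matrix.cons_val_fin_one, _root_.Finset.sum_const, _root_.Finset.card_singleton, _root_.one_smul, _root_.zero_add]; linear_combination h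
    · simp only [dotProduct, Fin.sum_univ_succ, _root_.Fin.isValue, _root_.Matrix.cons_val_zero, _root_.Matrix.cons_val_succ, _root_.Fin.succ_zero_eq_one, _root_.Fin.succ_one_eq_two, _root_.MulZeroClass.zero_mul, _root_.Fin.reduceSucc, _root_.Finset.univ_unique, _root_.Fin.default_eq_zero, _root_.Matrix.cons_val_fin_one, _root_.Finset.sum_singleton, _root_.zero_add]; linear_combination h'
  · refine ⟨![0, 0, x, y, z, t], ?_, ?_⟩
    · simp only [dotProduct, Fin.sum_univ_succ, _root_.Fin.isValue, _root_.Matrix.cons_val_zero, _root_.MulZeroClass.mul_zero, _root_.Matrix.cons_val_succ, _root_.Finset.univ_unique, _root_.Fin.default_eq_zero, _root_.Matrix.cons_val_fin_one, _root_.Finset.sum_const, _root_.Finset.card_singleton, _root_.one_smul, _root_.zero_add]; linear_combination h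
    · simp only [dotProduct, Fin.sum_univ_succ, _root_.Fin.isValue, _root_.Matrix.cons_val_zero, _root_.MulZeroClass.zero_mul, _root_.Matrix.cons_val_succ, _root_.Fin.succ_zero_eq_one, _root_.Fin.succ_one_eq_two, _root_.Fin.reduceSucc, _root_.Finset.univ_unique, _root_.Fin.default_eq_zero, _root_.Matrix.cons_val_fin_one, _root_.Finset.sum_singleton, _root_.zero_add]; linear_combination h'

/-- a vector of norm `1` orthogonal to a given one, supported outside `I` -/
theorem exists_perp (h2 : (2 : K) ≠ 0) (I : Finset κ) (hI : I.card + 6 ≤ Fintype.card κ) (u : κ → K) :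
    ∃ w : κ → K, w ⬝ᵥ w = 1 ∧ w ⬝ᵥ u = 0 ∧ ∀ i ∈ I, w i = 0 := by
  obtain ⟨e⟩ : Nonempty (Fin 6 ↪ {i // i ∉ I}) := by
    rw [Function.Embedding.nonempty_iff_card_le]
    simp only [Fintype.card_fin, Fintype.card_subtype_compl, Fintype.card_coe]
    omega
  obtain ⟨w, h1, h3⟩ := exists_six h2 (fun j => u (e j))
  have einj : Function.Injective (fun j => (e j : κ)) := Subtype.val_injective.comp e.injective
  have hext : ∀ j, Function.extend (fun j => (e j : κ)) w 0 (e j : κ) = w j := fun j =>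
    einj.extend_apply w 0 j
  refine ⟨Function.extend (fun j => (e j : κ)) w 0, ?_, ?_, ?_⟩
  · rw [← h1]
    refine (Fintype.sum_of_injective _ einj _ _ (fun i hi => ?_) (fun j => ?_)).symm
    · rw [Function.extend_apply' _ _ _ (fun ⟨j, hj⟩ => hi ⟨j, hj⟩)]; simp
    · rw [hext]
  · rw [← h3]
    refine (Fintype.sum_of_injective _ einj _ _ (fun i hi => ?_) (fun j => ?_)).symm
    · rw [Function.extend_apply' _ _ _ (fun ⟨j, hj⟩ => hi ⟨j, hj⟩)]; simp
    · rw [hext]
  · intro i hi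
    rw [Function.extend_apply' _ _ _ (fun ⟨j, hj⟩ => (e j).2 (hj ▸ hi))]; rfl

/-- transitivity of the stabiliser of coordinate vectors -/
theorem exists_move (h2 : (2 : K) ≠ 0) (I : Finset κ) {k : κ} (hk : k ∉ I) (hI : I.card + 3 ≤ Fintype.card κ)
    {y : κ → K} (hy : y ⬝ᵥ y = 1) (hyI : ∀ i ∈ I, y i = 0) :
    ∃ g : IG K κ, g ∈ commutator (IG K κ) ∧ (∀ i ∈ I, g (ee K i) = ee K i) ∧ g (ee K k) = y := by
  obtain ⟨a, ha, b, hb, hab⟩ := Finset.one_lt_card.1 (show 1 < ((insert k I)ᶜ).card by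
    rw [Finset.card_compl, Finset.card_insert_of_notMem hk]; omega)
  rw [Finset.mem_compl, Finset.mem_insert, not_or] at ha hb
  -- vectors of arbitrary norm orthogonal to everything
  have hx : ∀ N : K, ∃ x : κ → K, x ⬝ᵥ x = N ∧ x k = 0 ∧ ∀ i ∈ I, x i = 0 := by
    intro N
    obtain ⟨α, β, h⟩ := exists_two_sq h2 N
    refine ⟨α • ee K a + β • ee K b, ?_, ?_, ?_⟩
    · simp only [dotProduct_add, dotProduct_smul, smul_eq_mul, dot_ee, Pi.add_apply, Pi.smul_apply, ee_apply,
        if_neg hab, if_neg hab.symm, if_true]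
      rw [← h]; ring
    · simp only [Pi.add_apply, Pi.smul_apply, smul_eq_mul, ee_apply, if_neg (Ne.symm ha.1), if_neg (Ne.symm hb.1)]
      ring
    · intro i hi
      have hia : i ≠ a := fun h => ha.2 (h ▸ hi)
      have hib : i ≠ b := fun h => hb.2 (h ▸ hi)
      simp only [Pi.add_apply, Pi.smul_apply, smul_eq_mul, ee_apply, if_neg hia, if_neg hib]
      ring
  have fixx : ∀ (x : κ → K) (i : κ), x i = 0 → rI x (ee K i) = ee K i := fun x i h =>
    rI_fix (by rw [ee_dot, h])
  have hki : ∀ i ∈ I, i ≠ k := fun i hi h => hk (h ▸ hi)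
  have e1 : ee K k ⬝ᵥ ee K k = y ⬝ᵥ y := by rw [ee_ee, hy]
  rcases sum_diff h2 e1 (by rw [ee_ee]; exact one_ne_zero) with h | h
  · obtain ⟨x, hx1, hxk, hxI⟩ := hx ((ee K k - y) ⬝ᵥ (ee K k - y))
    refine ⟨rI (ee K k - y) * rI x, ?_, fun i hi => ?_, ?_⟩
    · rw [mem_comm_iff, map_mul, of_eq h2 hx1 (by rwa [hx1]), of_sq]
    · rw [IG_mul, fixx x i (hxI i hi), fixx _ i]
      rw [Pi.sub_apply, ee_apply, if_neg (hki i hi), hyI i hi, sub_zero]
    · rw [IG_mul, fixx x k hxk, rI_move e1 h]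
  · obtain ⟨x, hx1, hxk, hxI⟩ := hx ((ee K k + y) ⬝ᵥ (ee K k + y))
    obtain ⟨x', hx1', hxk', hxI'⟩ := hx 1
    refine ⟨rI y * rI (ee K k + y) * (rI x' * rI x), ?_, fun i hi => ?_, ?_⟩
    · rw [mem_comm_iff, map_mul, map_mul, map_mul, of_eq h2 hx1 (by rwa [hx1]),
        of_eq h2 (hx1'.trans hy.symm) (by rw [hx1']; exact one_ne_zero), mul_mul_mul_comm, of_sq, of_sq, one_mul]
    · rw [IG_mul, IG_mul, IG_mul, fixx x i (hxI i hi), fixx x' i (hxI' i hi), fixx (ee K k + y) i, fixx y i (hyI i hi)]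
      rw [Pi.add_apply, ee_apply, if_neg (hki i hi), hyI i hi, add_zero]
    · rw [IG_mul, IG_mul, IG_mul, fixx x k hxk, fixx x' k hxk']
      have e3 : rI (ee K k + y) (ee K k) = - y := by
        have := rI_move (a := ee K k) (b := -y) (by rw [neg_dotProduct_neg, e1]) (by rwa [sub_neg_eq_add])
        rwa [sub_neg_eq_add] at this
      rw [e3, map_neg, rI_self (by rw [hy]; exact one_ne_zero), neg_neg]

/-- the inductive step of the generation theorem -/
theorem gen_step (h2 : (2 : K) ≠ 0) (I : Finset κ) (hI : I.card + 7 ≤ Fintype.card κ)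
    (M : Subgroup (IG K κ)) {a b : κ} (hab : a ≠ b) (ha : a ∉ I) (hb : b ∉ I)
    (hMa : ∀ g ∈ commutator (IG K κ), (∀ i ∈ I, g (ee K i) = ee K i) → g (ee K a) = ee K a → g ∈ M)
    (hMb : ∀ g ∈ commutator (IG K κ), (∀ i ∈ I, g (ee K i) = ee K i) → g (ee K b) = ee K b → g ∈ M) :
    ∀ g ∈ commutator (IG K κ), (∀ i ∈ I, g (ee K i) = ee K i) → g ∈ M := by
  intro s hs hsI
  set Ω := commutator (IG K κ) with hΩ
  have inv_fix : ∀ {g : IG K κ} {v : κ → K}, g v = v → g⁻¹ v = v := fun {g v} h => by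
    nth_rw 1 [← h]; rw [IG_inv_apply]
  obtain ⟨w, hw1, hwu, hwI⟩ := exists_perp h2 (insert a I) (by rw [Finset.card_insert_of_notMem ha]; omega)
    (s (ee K a))
  obtain ⟨t1, ht1, ht1I, ht1b⟩ := exists_move h2 (insert a I) (k := b) (by
    rw [Finset.mem_insert, not_or]; exact ⟨hab.symm, hb⟩) (by rw [Finset.card_insert_of_notMem ha]; omega) hw1 hwI
  have m1 : t1 ∈ M := hMa t1 ht1 (fun i hi => ht1I i (Finset.mem_insert_of_mem hi)) (ht1I a (Finset.mem_insert_self _ _))
  set s1 := t1⁻¹ * s with hs1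
  have hs1Ω : s1 ∈ Ω := Ω.mul_mem (Ω.inv_mem ht1) hs
  have hs1I : ∀ i ∈ I, s1 (ee K i) = ee K i := fun i hi => by
    rw [hs1, IG_mul, hsI i hi]
    exact inv_fix (ht1I i (Finset.mem_insert_of_mem hi))
  -- `y = s1 e_a`
  have hyb : s1 (ee K a) b = 0 := by
    rw [← dot_ee (s1 (ee K a)) b, hs1, IG_mul]
    have : ee K b = t1⁻¹ w := by rw [← ht1b, IG_inv_apply]
    rw [this, IG_dot h2, dotProduct_comm]
    exact hwu
  have hy1 : s1 (ee K a) ⬝ᵥ s1 (ee K a) = 1 := by rw [IG_dot h2, ee_ee]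
  have hyI : ∀ i ∈ insert b I, s1 (ee K a) i = 0 := by
    intro i hi
    rw [Finset.mem_insert] at hi
    rcases hi with rfl | hi
    · exact hyb
    · rw [← dot_ee (s1 (ee K a)) i]
      rw [← hs1I i hi]
      rw [IG_dot h2, dot_ee, ee_apply, if_neg (fun h : i = a => ha (h ▸ hi))]
  obtain ⟨t2, ht2, ht2I, ht2a⟩ := exists_move h2 (insert b I) (k := a) (by
    rw [Finset.mem_insert, not_or]; exact ⟨hab, ha⟩) (by rw [Finset.card_insert_of_notMem hb]; omega) hy1 hyI
  have m2 : t2 ∈ M := hMb t2 ht2 (fun i hi => ht2I i (Finset.mem_insert_of_mem hi)) (ht2I b (Finset.mem_insert_self _ _))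
  have m3 : t2⁻¹ * s1 ∈ M := by
    refine hMa _ (Ω.mul_mem (Ω.inv_mem ht2) hs1Ω) (fun i hi => ?_) ?_
    · rw [IG_mul, hs1I i hi]
      exact inv_fix (ht2I i (Finset.mem_insert_of_mem hi))
    · rw [IG_mul, ← ht2a, IG_inv_apply]
  have e : s = t1 * (t2 * (t2⁻¹ * s1)) := by rw [hs1]; group
  rw [e]
  exact M.mul_mem m1 (M.mul_mem m2 m3)

/-- `Ω` is generated by the stabilisers of two coordinate vectors -/
theorem gen_two (h2 : (2 : K) ≠ 0) (hκ : 8 ≤ Fintype.card κ) (M : Subgroup (IG K κ))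
    (hM : ∀ i j, i ≠ j → ∀ g ∈ commutator (IG K κ), g (ee K i) = ee K i → g (ee K j) = ee K j → g ∈ M) :
    commutator (IG K κ) ≤ M := by
  have one : ∀ k, ∀ g ∈ commutator (IG K κ), g (ee K k) = ee K k → g ∈ M := by
    intro k g hg hgk
    obtain ⟨a, ha, b, hb, hab⟩ := Finset.one_lt_card.1 (show 1 < (({k} : Finset κ)ᶜ).card by
      rw [Finset.card_compl, Finset.card_singleton]; omega)
    rw [Finset.mem_compl] at ha hb
    refine gen_step h2 {k} (by rw [Finset.card_singleton]; omega) M hab ha hb ?_ ?_ g hg ?_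
    · intro g hg h1 h3
      exact hM a k (fun h => ha (by simp [h])) g hg h3 (h1 k (Finset.mem_singleton_self k))
    · intro g hg h1 h3
      exact hM b k (fun h => hb (by simp [h])) g hg h3 (h1 k (Finset.mem_singleton_self k))
    · intro i hi
      rw [Finset.mem_singleton.1 hi]; exact hgk
  obtain ⟨a, b, hab⟩ : ∃ a b : κ, a ≠ b := Fintype.exists_pair_of_one_lt_card (by omega)
  intro g hg
  exact gen_step h2 ∅ (by rw [Finset.card_empty]; omega) M hab (by simp) (by simp)
    (fun g hg _ h => one a g hg h) (fun g hg _ h => one b g hg h) g hg (by simp)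

end transit

end Cfsg.Agent.H210.DoRes
end

private theorem dce_888f1a9f2e55 : _root_.True := by
  try have : _root_.True := by simp only [_root_.Cfsg.Agent.H210.DoRes.sI.eq_1]
  try have : _root_.True := by simp only [_root_.Cfsg.Agent.H210.DoRes.ee.congr_simp]
  try have : _root_.True := by simp only [_root_.Cfsg.Agent.H210.DoRes.PR.cm.eq_1]
  try have : _root_.True := by simp only [_root_.Cfsg.Agent.H210.DoRes.W.congr_simp]
  try have : _root_.True := by simp only [_root_.Cfsg.Agent.H210.DoRes.PR.sec.congr_simp]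
  exact _root_.True.intro
end

section
prune_inst 0xbfa9f8bbb82ddfdfff7e77a698edfc1b901fffa4dffd433fe021ef0bdf030009c5a38d09e000fe0ea3401410a87803f9fffeffe26bf87ffffd1ff41ffbee4fe5f7b508519488340f380ff603f0678e7f000000000000000000000000000000000200000000

-- part: H746/OddM/ThreeChar
section
prune_inst 0x4004034046d220000001800067020020020000420000088002000004200088060a081084102200114022080010005002000100080404000000e0004000000000000800200a0480000000000000000000000000000000000000000000000000000000000000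
set_option linter.all false
open scoped Cfsg.Agent.FastGrp

-- part: H746/OddM/ThreeBase
section
/-!
# S4785, dimension 3: transvections and diagonal elements in geometric subgroups (helper746, TEAM ODDM)

* `IsTv A`: `A` is a transvection; `IsTv.not_decomp`, `IsTv.not_form`, `IsTv.not_quad`
* `IsEg lam A`: `A` is conjugate to `diag(1, lam, lam⁻¹)`; `IsEg.subfield`
* `IsRu A`: `A` is a regular unipotent element
-/

set_option autoImplicit false

namespace Cfsg.Agent.H746.OddM.Three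

open Cfsg Cfsg.Geo Matrix
open scoped MatrixGroups

variable {F : Type*} [Field F]

local notation "V3" => Fin 3 → F
local notation "M3" => Matrix (Fin 3) (Fin 3) F

/-- a transvection -/
def IsTv (A : M3) : Prop :=
  ∃ φ a : V3, φ ⬝ᵥ a = 0 ∧ φ ≠ 0 ∧ a ≠ 0 ∧ A = 1 + vecMulVec a φ

theorem tv_mulVec (φ a v : V3) : (1 + vecMulVec a φ : M3) *ᵥ v = v + (φ ⬝ᵥ v) • a := by
  rw [Matrix.add_mulVec, Matrix.one_mulVec]
  congr 1
  ext i
  simp only [Matrix.mulVec, dotProduct, vecMulVec_apply, Pi.smul_apply, smul_eq_mul, Finset.sum_mul]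
  exact Finset.sum_congr rfl fun j _ => by ring

theorem conj_ne_zero {P Q : M3} (hPQ : Q * P = 1) {a : V3} (ha : a ≠ 0) : P *ᵥ a ≠ 0 := by
  intro h
  apply ha
  rw [← Matrix.one_mulVec a, ← hPQ, ← Matrix.mulVec_mulVec, h, Matrix.mulVec_zero]

theorem IsTv.conj {A : M3} (h : IsTv A) (P : GL (Fin 3) F) :
    IsTv ((P : M3) * A * ((P⁻¹ : GL (Fin 3) F) : M3)) := by
  obtain ⟨φ, a, h1, h2, h3, rfl⟩ := h
  have hPQ : ((P⁻¹ : GL (Fin 3) F) : M3) * (P : M3) = 1 := by rw [← Units.val_mul, inv_mul_cancel, Units.val_one]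
  have hQP : (P : M3) * ((P⁻¹ : GL (Fin 3) F) : M3) = 1 := by rw [← Units.val_mul, mul_inv_cancel, Units.val_one]
  refine ⟨φ ᵥ* ((P⁻¹ : GL (Fin 3) F) : M3), (P : M3) *ᵥ a, ?_, ?_, conj_ne_zero hPQ h3, ?_⟩
  · rw [← Matrix.dotProduct_mulVec, Matrix.mulVec_mulVec, hPQ, Matrix.one_mulVec, h1]
  · intro h
    apply h2
    rw [← Matrix.vecMul_one φ, ← hPQ, ← Matrix.vecMul_vecMul, h, Matrix.zero_vecMul]
  · rw [Matrix.mul_add, Matrix.add_mul, Matrix.mul_one, hQP, Matrix.mul_vecMulVec, Matrix.vecMulVec_mul]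

/-- a basis adapted to a decomposition -/
theorem exists_basis {D : Fin 3 → Submodule F V3} (hD : IsMDecomposition 1 D) :
    ∃ b : Module.Basis (Fin 3) F V3, ∀ i, D i = Submodule.span F {b i} := by
  have h1 : ∀ i, ∃ v : V3, v ∈ D i ∧ v ≠ 0 ∧ D i = Submodule.span F {v} := by
    intro i
    obtain ⟨v, hv, hs⟩ := finrank_eq_one_iff'.1 (hD.finrank_eq i)
    refine ⟨v, v.2, fun h => hv (Subtype.ext h), le_antisymm ?_ ?_⟩
    · intro w hw
      obtain ⟨c, hc⟩ := hs ⟨w, hw⟩
      rw [Submodule.mem_span_singleton]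
      exact ⟨c, congrArg Subtype.val hc⟩
    · rw [Submodule.span_singleton_le_iff_mem]
      exact v.2
  choose v hv hv0 hs using h1
  have hli : LinearIndependent F v := hD.indep.linearIndependent _ hv hv0
  refine ⟨basisOfLinearIndependentOfCardEqFinrank hli (by simp), fun i => ?_⟩
  rw [coe_basisOfLinearIndependentOfCardEqFinrank]
  exact hs i

theorem exists_ne_zero (b : Module.Basis (Fin 3) F V3) {φ : V3} (hφ : φ ≠ 0) : ∃ i, φ ⬝ᵥ b i ≠ 0 := by
  by_contra h
  push Not at h
  apply hφ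
  have h1 : ∀ v : V3, φ ⬝ᵥ v = 0 := by
    intro v
    rw [← b.sum_repr v, dotProduct_sum]
    refine Finset.sum_eq_zero fun i _ => ?_
    rw [dotProduct_smul, h i, smul_zero]
  exact (dotProduct_eq_zero_iff).1 h1

/-- **a transvection is not monomial** -/
theorem IsTv.not_decomp (h2 : (2 : F) ≠ 0) {A : GL (Fin 3) F} (hA : IsTv (A : M3)) {D : Fin 3 → Submodule F V3}
    (hD : IsMDecomposition 1 D) : A ∉ decompositionStabilizer D := by
  rintro ⟨σ, hσ⟩
  obtain ⟨b, hb⟩ := exists_basis hD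
  obtain ⟨φ, a, h1, hφ, ha, hAe⟩ := hA
  have hact : ∀ v, (A : M3) *ᵥ v = v + (φ ⬝ᵥ v) • a := fun v => by rw [hAe, tv_mulVec]
  have hmu : ∀ i, ∃ μ : F, (A : M3) *ᵥ b i = μ • b (σ i) := by
    intro i
    have h3 : Matrix.toLin' (A : M3) (b i) ∈ (D i).map (Matrix.toLin' (A : M3)) := by
      refine Submodule.mem_map_of_mem ?_
      rw [hb i]; exact Submodule.mem_span_singleton_self _
    rw [hσ i, hb (σ i), Submodule.mem_span_singleton] at h3
    obtain ⟨μ, hμ⟩ := h3
    exact ⟨μ, by rw [hμ, Matrix.toLin'_apply]⟩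
  obtain ⟨i, hi⟩ := exists_ne_zero b hφ
  obtain ⟨μ, hμ⟩ := hmu i
  rw [hact] at hμ
  by_cases hj : σ i = i
  · rw [hj] at hμ
    have h3 : φ ⬝ᵥ b i = μ * (φ ⬝ᵥ b i) := by
      have := congrArg (fun w => φ ⬝ᵥ w) hμ
      simpa only [dotProduct_add, dotProduct_smul, h1, _root_.smul_eq_mul, _root_.MulZeroClass.mul_zero, _root_.add_zero] using this
    have h4 : μ = 1 := by
      have : (μ - 1) * (φ ⬝ᵥ b i) = 0 := by linear_combination -h3
      rcases mul_eq_zero.1 this with h | h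
      · linear_combination h
      · exact absurd h hi
    rw [h4, one_smul] at hμ
    have h5 : (φ ⬝ᵥ b i) • a = 0 := by simpa only [_root_.smul_eq_zero, _root_.add_eq_left] using hμ
    rcases smul_eq_zero.1 h5 with h | h
    · exact hi h
    · exact ha h
  · have h3 : φ ⬝ᵥ b i = μ * (φ ⬝ᵥ b (σ i)) := by
      have := congrArg (fun w => φ ⬝ᵥ w) hμ
      simpa only [dotProduct_add, dotProduct_smul, h1, _root_.smul_eq_mul, _root_.MulZeroClass.mul_zero, _root_.add_zero] using this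
    have hμ0 : μ ≠ 0 := by
      rintro rfl
      rw [zero_mul] at h3
      exact hi h3
    obtain ⟨ν, hν⟩ := hmu (σ i)
    rw [hact] at hν
    -- `μ A b_j = 2 μ b_j - b_i`
    have h4 : (2 * μ) • b (σ i) - b i = (μ * ν) • b (σ (σ i)) := by
      have e1 : (μ * ν) • b (σ (σ i)) = μ • (b (σ i) + (φ ⬝ᵥ b (σ i)) • a) := by rw [hν, smul_smul]
      have e2 : μ • (b (σ i) + (φ ⬝ᵥ b (σ i)) • a) = μ • b (σ i) + (φ ⬝ᵥ b i) • a := by
        rw [smul_add, smul_smul, ← h3]
      have e3 : (φ ⬝ᵥ b i) • a = μ • b (σ i) - b i := by rw [← hμ]; abel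
      rw [e1, e2, e3, two_mul, add_smul]
      abel
    have hrep := congrArg (fun w => b.repr w) h4
    have hr1 := congrArg (fun w => w (σ i)) hrep
    have hr2 := congrArg (fun w => w i) hrep
    simp only [map_sub, map_smul, Module.Basis.repr_self, Finsupp.sub_apply, Finsupp.smul_apply, smul_eq_mul,
      Finsupp.single_apply] at hr1 hr2
    rw [if_pos trivial, if_neg (fun h => hj h.symm), mul_one, sub_zero] at hr1
    rw [if_neg hj, if_pos trivial, mul_zero, zero_sub] at hr2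
    by_cases h5 : σ (σ i) = σ i
    · rw [h5, if_neg hj, mul_zero] at hr2
      exact one_ne_zero (neg_eq_zero.1 hr2)
    · rw [if_neg h5, mul_zero] at hr1
      exact (mul_ne_zero h2 hμ0) hr1

/-- **a transvection is not a similarity of a symmetric form** -/
theorem IsTv.not_form (h2 : (2 : F) ≠ 0) {A : M3} (hA : IsTv A) {B : V3 → V3 → F} (hB : IsBilinearForm B)
    (hs : ∀ v w, B v w = B w v) (hn : IsNondegenerateForm B) {c : F}
    (h : ∀ v w, B (A *ᵥ v) (A *ᵥ w) = c * B v w) : False := by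
  obtain ⟨φ, a, h1, hφ, ha, hAe⟩ := hA
  have hact : ∀ v, A *ᵥ v = v + (φ ⬝ᵥ v) • a := fun v => by rw [hAe, tv_mulVec]
  have key : ∀ v w, B v w + (φ ⬝ᵥ w) * B v a + (φ ⬝ᵥ v) * B a w + (φ ⬝ᵥ v) * (φ ⬝ᵥ w) * B a a = c * B v w := by
    intro v w
    rw [← h, hact, hact, hB.add_left, hB.add_right, hB.smul_left, hB.add_right, hB.smul_right, hB.smul_right]
    ring
  obtain ⟨w₁, hw₁⟩ := (hn a ha).2
  have hc : c = 1 := by
    by_contra hc
    have e1 := key a a
    rw [h1] at e1
    have e2 : B a a = 0 := by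
      have : (1 - c) * B a a = 0 := by linear_combination e1
      exact (mul_eq_zero.1 this).resolve_left (sub_ne_zero.2 (Ne.symm hc))
    have e3 := key a w₁
    rw [h1, e2] at e3
    have : (1 - c) * B a w₁ = 0 := by linear_combination e3
    exact hw₁ ((mul_eq_zero.1 this).resolve_left (sub_ne_zero.2 (Ne.symm hc)))
  subst hc
  obtain ⟨j, hj⟩ : ∃ j, φ j ≠ 0 := by
    by_contra hcon
    push Not at hcon
    exact hφ (funext hcon)
  set w₂ : V3 := Pi.single j 1 with hw₂
  have hφw : φ ⬝ᵥ w₂ ≠ 0 := by rw [hw₂, dotProduct_single_one]; exact hj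
  have haa : B a a = 0 := by
    have e1 := key a w₂
    rw [h1] at e1
    have : (φ ⬝ᵥ w₂) * B a a = 0 := by linear_combination e1
    exact (mul_eq_zero.1 this).resolve_left hφw
  have e2 : B w₂ a = 0 := by
    have e1 := key w₂ w₂
    rw [haa, hs a w₂] at e1
    have : (2 * (φ ⬝ᵥ w₂)) * B w₂ a = 0 := by linear_combination e1
    exact (mul_eq_zero.1 this).resolve_left (mul_ne_zero h2 hφw)
  have e3 : B w₁ a = 0 := by
    have e1 := key w₁ w₂
    rw [haa, hs a w₂, e2] at e1
    have : (φ ⬝ᵥ w₂) * B w₁ a = 0 := by linear_combination e1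
    exact (mul_eq_zero.1 this).resolve_left hφw
  rw [hs] at e3
  exact hw₁ e3

/-- **a transvection is not a similarity of a quadratic form** -/
theorem IsTv.not_quad (h2 : (2 : F) ≠ 0) {A : GL (Fin 3) F} (hA : IsTv (A : M3)) {Q : V3 → F}
    (hQ : IsNondegenerateQuadraticForm Q) : A ∉ quadSimilarityGroup Q := by
  rintro ⟨c, hc⟩
  refine hA.not_form h2 hQ.polar_bilinear (fun v w => QuadraticMap.polar_comm Q v w) hQ.nondegenerate (c := c) ?_
  intro v w
  rw [QuadraticMap.polar, QuadraticMap.polar, ← Matrix.mulVec_add, hc, hc, hc]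
  ring

/-- conjugate to `diag(1, lam, lam⁻¹)` -/
def IsEg (lam : F) (A : M3) : Prop :=
  ∃ P : GL (Fin 3) F, A = (P : M3) * Matrix.diagonal ![1, lam, lam⁻¹] * ((P⁻¹ : GL (Fin 3) F) : M3)

theorem IsEg.conj {lam : F} {A : M3} (h : IsEg lam A) (P : GL (Fin 3) F) :
    IsEg lam ((P : M3) * A * ((P⁻¹ : GL (Fin 3) F) : M3)) := by
  obtain ⟨Q, rfl⟩ := h
  refine ⟨P * Q, ?_⟩
  rw [_root_.mul_inv_rev, Units.val_mul, Units.val_mul]
  simp only [Matrix.mul_assoc]

theorem trace_conj (P : GL (Fin 3) F) (A : M3) :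
    ((P : M3) * A * ((P⁻¹ : GL (Fin 3) F) : M3)).trace = A.trace := by
  rw [Matrix.trace_mul_comm, ← Matrix.mul_assoc, ← Units.val_mul, inv_mul_cancel, Units.val_one, Matrix.one_mul]

theorem trace_adj_conj (P : GL (Fin 3) F) (A : M3) :
    ((P : M3) * A * ((P⁻¹ : GL (Fin 3) F) : M3)).adjugate.trace = A.adjugate.trace := by
  rw [Matrix.adjugate_mul_distrib, Matrix.adjugate_mul_distrib, Matrix.trace_mul_comm, Matrix.mul_assoc,
    ← Matrix.adjugate_mul_distrib, ← Units.val_mul, inv_mul_cancel, Units.val_one, Matrix.adjugate_one,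
    Matrix.mul_one]

/-- **subfield subgroups and `diag(1, lam, lam⁻¹)`** -/
theorem IsEg.subfield {lam : F} (hlam : lam ≠ 0) {A : GL (Fin 3) F} (hA : IsEg lam (A : M3)) {F₀ : Subfield F}
    {P : GL (Fin 3) F} (h : A ∈ subfieldSubgroup F₀ P) :
    1 + lam + lam⁻¹ = 0 ∨ lam + lam⁻¹ ∈ F₀ := by
  obtain ⟨c, hc, hB⟩ := Cfsg.Agent.H914.mem_subfieldSubgroup_iff.1 h
  set s := 1 + lam + lam⁻¹ with hs
  have hAP : ((P⁻¹ * A * P : GL (Fin 3) F) : M3) = ((P⁻¹ : GL (Fin 3) F) : M3) * (A : M3) *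
      (((P⁻¹)⁻¹ : GL (Fin 3) F) : M3) := by
    rw [inv_inv, Units.val_mul, Units.val_mul]
  set B : M3 := ((P⁻¹ * A * P : GL (Fin 3) F) : M3) with hBd
  have e1 : B.trace = s := by
    obtain ⟨Q, hQ⟩ := hA
    rw [hAP, trace_conj, hQ, trace_conj, Matrix.trace_diagonal, Fin.sum_univ_three]
    rfl
  have e2 : B.adjugate.trace = s := by
    obtain ⟨Q, hQ⟩ := hA
    rw [hAP, trace_adj_conj, hQ, trace_adj_conj, hs, Matrix.adjugate_fin_three, Matrix.trace_fin_three]
    simp only [Matrix.diagonal, hlam, _root_.Nat.succ_eq_add_one, _root_.Nat.reduceAdd, _root_.Fin.isValue, _root_.Matrix.of_apply, ↓ _root_.reduceIte, _root_.Matrix.cons_val_one, _root_.Matrix.cons_val_zero, _root_.Matrix.cons_val, _root_.ne_eq, _root_.not_false_eq_true, _root_.mul_inv_cancel₀, _root_.Fin.reduceEq, _root_.MulZeroClass.mul_zero, _root_.sub_zero, _root_.zero_ne_one, _root_.MulZeroClass.zero_mul, _root_.neg_zero, _root_.add_zero, _root_.sub_self, _root_.one_ne_zero, _root_.one_mul,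 _root_.Matrix.cons_val', _root_.Matrix.cons_val_fin_one]
    ring
  have h1 : c * s ∈ F₀ := by
    rw [← e1, Matrix.trace_fin_three, mul_add, mul_add]
    exact add_mem (add_mem (hB 0 0) (hB 1 1)) (hB 2 2)
  have h2 : c ^ 2 * s ∈ F₀ := by
    rw [← e2, Matrix.adjugate_fin_three, Matrix.trace_fin_three]
    have e : c ^ 2 * ((c * B 1 1 * (c * B 2 2) - c * B 1 2 * (c * B 2 1)) / c ^ 2 +
        (c * B 0 0 * (c * B 2 2) - c * B 0 2 * (c * B 2 0)) / c ^ 2 +
        (c * B 0 0 * (c * B 1 1) - c * B 0 1 * (c * B 1 0)) / c ^ 2) ∈ F₀ := by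
      rw [← add_div, ← add_div, mul_div_cancel₀ _ (pow_ne_zero 2 hc)]
      exact add_mem (add_mem (sub_mem (mul_mem (hB 1 1) (hB 2 2)) (mul_mem (hB 1 2) (hB 2 1)))
        (sub_mem (mul_mem (hB 0 0) (hB 2 2)) (mul_mem (hB 0 2) (hB 2 0))))
        (sub_mem (mul_mem (hB 0 0) (hB 1 1)) (mul_mem (hB 0 1) (hB 1 0)))
    convert e using 2
    simp only [_root_.Fin.isValue, _root_.Matrix.of_apply, _root_.Matrix.cons_val', _root_.Matrix.cons_val_zero, _root_.Matrix.cons_val_fin_one, _root_.Matrix.cons_val_one, _root_.Matrix.cons_val]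
    field_simp
  by_cases hs0 : s = 0
  · exact Or.inl hs0
  right
  have hcF : c ∈ F₀ := by
    have : c = c ^ 2 * s / (c * s) := by field_simp
    rw [this]
    exact div_mem h2 h1
  have : lam + lam⁻¹ = c * s / c - 1 := by rw [mul_div_cancel_left₀ _ hc, hs]; ring
  rw [this]
  exact sub_mem (div_mem h1 hcF) (one_mem _)

/-- a regular unipotent element -/
def IsRu (A : M3) : Prop := (A - 1) ^ 3 = 0 ∧ (A - 1) ^ 2 ≠ 0

theorem sub_one_conj (A : M3) (P : GL (Fin 3) F) (n : ℕ) :
    ((P : M3) * A * ((P⁻¹ : GL (Fin 3) F) : M3) - 1) ^ n = (P : M3) * (A - 1) ^ n * ((P⁻¹ : GL (Fin 3) F) : M3) := by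
  have hPP : (P : M3) * ((P⁻¹ : GL (Fin 3) F) : M3) = 1 := by rw [← Units.val_mul, mul_inv_cancel, Units.val_one]
  have hPP' : ((P⁻¹ : GL (Fin 3) F) : M3) * (P : M3) = 1 := by rw [← Units.val_mul, inv_mul_cancel, Units.val_one]
  have h1 : (P : M3) * A * ((P⁻¹ : GL (Fin 3) F) : M3) - 1 = (P : M3) * (A - 1) * ((P⁻¹ : GL (Fin 3) F) : M3) := by
    rw [Matrix.mul_sub, Matrix.sub_mul, Matrix.mul_one, hPP]
  rw [h1]
  induction n with
  | zero => rw [pow_zero, pow_zero, Matrix.mul_one, hPP]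
  | succ n ih =>
    rw [pow_succ, ih, pow_succ]
    calc (P : M3) * (A - 1) ^ n * ((P⁻¹ : GL (Fin 3) F) : M3) * ((P : M3) * (A - 1) * ((P⁻¹ : GL (Fin 3) F) : M3))
        = (P : M3) * (A - 1) ^ n * (((P⁻¹ : GL (Fin 3) F) : M3) * (P : M3)) * (A - 1) *
          ((P⁻¹ : GL (Fin 3) F) : M3) := by simp only [Matrix.mul_assoc]
      _ = _ := by rw [hPP', Matrix.mul_one]; simp only [Matrix.mul_assoc]

theorem IsRu.conj {A : M3} (h : IsRu A) (P : GL (Fin 3) F) :
    IsRu ((P : M3) * A * ((P⁻¹ : GL (Fin 3) F) : M3)) := by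
  constructor
  · rw [sub_one_conj, h.1, Matrix.mul_zero, Matrix.zero_mul]
  · rw [sub_one_conj]
    intro h1
    apply h.2
    have hPP' : ((P⁻¹ : GL (Fin 3) F) : M3) * (P : M3) = 1 := by rw [← Units.val_mul, inv_mul_cancel, Units.val_one]
    calc (A - 1) ^ 2 = (((P⁻¹ : GL (Fin 3) F) : M3) * (P : M3)) * (A - 1) ^ 2 * (((P⁻¹ : GL (Fin 3) F) : M3) * (P : M3)) := by
          rw [hPP', Matrix.one_mul, Matrix.mul_one]
      _ = ((P⁻¹ : GL (Fin 3) F) : M3) * ((P : M3) * (A - 1) ^ 2 * ((P⁻¹ : GL (Fin 3) F) : M3)) * (P : M3) := by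
          simp only [Matrix.mul_assoc]
      _ = 0 := by rw [h1, Matrix.mul_zero, Matrix.zero_mul]

/-- powers of a transvection are not regular unipotent -/
theorem IsTv.sq {A : M3} (h : IsTv A) : (A - 1) ^ 2 = 0 := by
  obtain ⟨φ, a, h1, -, -, rfl⟩ := h
  rw [add_sub_cancel_left, pow_two, Matrix.vecMulVec_mul_vecMulVec, h1, zero_smul, Matrix.vecMulVec_zero]

theorem sq_pow {A : M3} (h : (A - 1) ^ 2 = 0) (n : ℕ) : (A ^ n - 1) ^ 2 = 0 := by
  have h1 : ∀ n : ℕ, A ^ n - 1 = (n : F) • (A - 1) := by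
    intro n
    induction n with
    | zero => simp only [_root_.pow_zero, _root_.sub_self, _root_.Nat.cast_zero, _root_.zero_smul]
    | succ n ih =>
      have e1 : A ^ (n + 1) - 1 = (A ^ n - 1) * (A - 1) + (A ^ n - 1) + (A - 1) := by
        rw [pow_succ]; noncomm_ring
      rw [e1, ih, Matrix.smul_mul, ← pow_two, h, smul_zero, zero_add, Nat.cast_succ, add_smul, one_smul]
  rw [h1, smul_pow, h, smul_zero]

/-- the eigenvectors -/
theorem IsEg.exists_vec {lam : F} {A : M3} (hA : IsEg lam A) :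
    ∃ b : Module.Basis (Fin 3) F V3, ∀ i, A *ᵥ b i = (![1, lam, lam⁻¹] i) • b i := by
  obtain ⟨P, rfl⟩ := hA
  have hPP : (P : M3) * ((P⁻¹ : GL (Fin 3) F) : M3) = 1 := by rw [← Units.val_mul, mul_inv_cancel, Units.val_one]
  have hPP' : ((P⁻¹ : GL (Fin 3) F) : M3) * (P : M3) = 1 := by rw [← Units.val_mul, inv_mul_cancel, Units.val_one]
  let e : V3 ≃ₗ[F] V3 := LinearEquiv.ofLinearMap (Matrix.toLin' (P : M3)) (Matrix.toLin' ((P⁻¹ : GL (Fin 3) F) : M3))
    (by rw [← Matrix.toLin'_mul, hPP, Matrix.toLin'_one]) (by rw [← Matrix.toLin'_mul, hPP', Matrix.toLin'_one])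
  refine ⟨(Pi.basisFun F (Fin 3)).map e, fun i => ?_⟩
  rw [Module.Basis.map_apply, Pi.basisFun_apply]
  change _ *ᵥ ((P : M3) *ᵥ (Pi.single i 1)) = _ • ((P : M3) *ᵥ (Pi.single i 1))
  rw [Matrix.mulVec_mulVec, Matrix.mul_assoc, hPP', Matrix.mul_one, ← Matrix.mulVec_mulVec,
    Matrix.diagonal_mulVec_single, mul_one, ← Matrix.mulVec_smul]
  congr 1
  ext j
  by_cases hj : j = i
  · subst hj; simp
  · simp [hj]

/-- **unitary forms and `diag(1, lam, lam⁻¹)`, `lam` a generator** -/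
theorem IsEg.not_unitary [Fintype F] {s : ℕ} (hF : Fintype.card F = s ^ 2) (hs : 3 ≤ s) {σ : F ≃+* F}
    (hσ : ∀ a, σ a = a ^ s) {u : Fˣ} (hu : orderOf u = Fintype.card F - 1) {A : GL (Fin 3) F}
    (hA : IsEg (u : F) (A : M3)) {f : V3 → V3 → F} (hf : IsUnitaryForm σ f) : A ∉ similarityGroup f := by
  rintro ⟨c, hc⟩
  obtain ⟨b, hb⟩ := hA.exists_vec
  have hadd : ∀ v x y, f v (x + y) = f v x + f v y := by
    intro v x y
    rw [hf.herm, hf.add_left, map_add, ← hf.herm, ← hf.herm]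
  have hsm : ∀ (a : F) v x, f v (a • x) = σ a * f v x := by
    intro a v x
    rw [hf.herm, hf.smul_left, map_mul, ← hf.herm]
  have hzero : ∀ v, f v 0 = 0 := by
    intro v
    have := hsm 0 v 0
    rwa [zero_smul, map_zero, zero_mul] at this
  have hμ : ∀ i, ∃ a : ℤ, (a = 0 ∨ a = 1 ∨ a = -1) ∧ (![1, (u : F), (u : F)⁻¹] i) = ((u ^ a : Fˣ) : F) := by
    intro i
    fin_cases i
    · exact ⟨0, Or.inl rfl, by simp⟩
    · exact ⟨1, Or.inr (Or.inl rfl), by simp⟩
    · exact ⟨-1, Or.inr (Or.inr rfl), by simp⟩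
  have hex : ∀ i, ∃ a : ℤ, (a = 0 ∨ a = 1 ∨ a = -1) ∧ (![1, (u : F), (u : F)⁻¹] i) * ((u ^ a : Fˣ) : F) ^ s = c := by
    intro i
    obtain ⟨x, hx⟩ := (hf.nondegenerate (b i) (b.ne_zero i)).2
    have : ∃ j, f (b i) (b j) ≠ 0 := by
      by_contra hcon
      push Not at hcon
      apply hx
      rw [← b.sum_repr x, Fin.sum_univ_three, hadd, hadd, hsm, hsm, hsm, hcon, hcon, hcon]
      ring
    obtain ⟨j, hj⟩ := this
    obtain ⟨a, ha, ha'⟩ := hμ j
    refine ⟨a, ha, ?_⟩
    have h1 := hc (b i) (b j)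
    rw [hb, hb, hf.smul_left, hsm, hσ, ha'] at h1
    have h2 : ((![1, (u : F), (u : F)⁻¹] i) * ((u ^ a : Fˣ) : F) ^ s - c) * f (b i) (b j) = 0 := by
      linear_combination h1
    exact sub_eq_zero.1 ((mul_eq_zero.1 h2).resolve_right hj)
  obtain ⟨a, ha, ha'⟩ := hex 0
  obtain ⟨a', hb1, hb'⟩ := hex 1
  have h1 : u * (u ^ a') ^ s = (u ^ a) ^ s := by
    apply Units.ext
    push_cast
    have e1 : (![1, (u : F), (u : F)⁻¹] (0 : Fin 3)) = 1 := rfl
    have e2 : (![1, (u : F), (u : F)⁻¹] (1 : Fin 3)) = u := rfl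
    rw [e1, one_mul] at ha'
    rw [e2] at hb'
    push_cast at ha' hb'
    rw [ha', hb']
  have h2 : u ^ (1 + (a' - a) * (s : ℤ)) = 1 := by
    have e1 : u ^ (1 + (a' - a) * (s : ℤ)) = u * (u ^ a') ^ s * ((u ^ a) ^ s)⁻¹ := by
      rw [← zpow_natCast (u ^ a') s, ← zpow_natCast (u ^ a) s, ← _root_.zpow_mul, ← _root_.zpow_mul,
        ← _root_.zpow_one_add, ← _root_.zpow_neg, ← _root_.zpow_add]
      congr 1
      ring
    rw [e1, h1, mul_inv_cancel]
  have h3 := orderOf_dvd_iff_zpow_eq_one.2 h2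
  rw [hu, hF] at h3
  have hs1 : 1 ≤ s ^ 2 := Nat.one_le_pow _ _ (by omega)
  rw [Nat.cast_sub hs1] at h3
  push_cast at h3
  obtain ⟨k, hk⟩ := h3
  have hs3 : (3 : ℤ) ≤ s := by exact_mod_cast hs
  have hbound : 2 * (s : ℤ) + 1 < (s : ℤ) ^ 2 - 1 := by nlinarith only [hs]
  have hd : a' - a = 0 ∨ a' - a = 1 ∨ a' - a = -1 ∨ a' - a = 2 ∨ a' - a = -2 := by omega
  have hk0 : k = 0 := by
    by_contra hk0
    rcases lt_or_gt_of_ne hk0 with h | h
    · have : ((s : ℤ) ^ 2 - 1) * k ≤ -((s : ℤ) ^ 2 - 1) := by nlinarith only [hs1, h]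
      rcases hd with h | h | h | h | h <;> rw [h] at hk <;> linarith only [hk, hbound, this]
    · have : ((s : ℤ) ^ 2 - 1) ≤ ((s : ℤ) ^ 2 - 1) * k := by nlinarith only [hs1, h]
      rcases hd with h | h | h | h | h <;> rw [h] at hk <;> linarith only [hk, hbound, this]
  rw [hk0, mul_zero] at hk
  rcases hd with h | h | h | h | h <;> rw [h] at hk <;> (clear * - hk hs; omega)

end Cfsg.Agent.H746.OddM.Three
end

-- part: H746/OddM/ThreeChar
section
/-!
# S4785, dimension 3: unipotent elements of order `p` (helper746, TEAM ODDM)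
-/

set_option autoImplicit false

namespace Cfsg.Agent.H746.OddM.Three

open Cfsg Cfsg.Geo Matrix
open scoped MatrixGroups

variable {F : Type*} [Field F]

local notation "V3" => Fin 3 → F
local notation "M3" => Matrix (Fin 3) (Fin 3) F

theorem IsTv.ne_scalar {A : M3} (h : IsTv A) (c : F) : A ≠ c • (1 : M3) := by
  obtain ⟨φ, a, h1, hφ, ha, rfl⟩ := h
  intro h2
  obtain ⟨j, hj⟩ : ∃ j, φ j ≠ 0 := by
    by_contra hcon
    push Not at hcon
    exact hφ (funext hcon)
  have h3 := congrArg (fun M : M3 => M *ᵥ a) h2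
  simp only [tv_mulVec, h1, zero_smul, add_zero, Matrix.smul_mulVec, Matrix.one_mulVec] at h3
  have hc : c = 1 := by
    by_contra hc
    have : (1 - c) • a = 0 := by rw [sub_smul, one_smul, ← h3, sub_self]
    rcases smul_eq_zero.1 this with h4 | h4
    · exact hc (sub_eq_zero.1 h4).symm
    · exact ha h4
  have h4 := congrArg (fun M : M3 => M *ᵥ (Pi.single j 1)) h2
  simp only [tv_mulVec, hc, one_smul, Matrix.one_mulVec, dotProduct_single_one] at h4
  have h5 : φ j • a = 0 := by simpa only [_root_.smul_eq_zero, _root_.add_eq_left] using h4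
  rcases smul_eq_zero.1 h5 with h6 | h6
  · exact hj h6
  · exact ha h6

section char

variable {p : ℕ} [hp : Fact p.Prime] [hcp : CharP F p]

include hp hcp in
theorem pow_char_of {A : M3} (h : (A - 1) ^ 3 = 0) (hp3 : 3 ≤ p) : A ^ p = 1 := by
  have h1 : (A - 1) ^ p = A ^ p - 1 := by
    have := sub_pow_char_of_commute (p := p) (Commute.one_right A)
    rwa [one_pow] at this
  have h2 : (A - 1) ^ p = 0 := by
    obtain ⟨k, rfl⟩ := Nat.exists_eq_add_of_le hp3
    rw [pow_add, h, zero_mul]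
  rw [h2] at h1
  exact (sub_eq_zero.1 h1.symm)

theorem IsTv.cube {A : M3} (h : IsTv A) : (A - 1) ^ 3 = 0 := by
  rw [pow_succ, h.sq, zero_mul]

include hp hcp in
theorem IsTv.orderOf (hp3 : 3 ≤ p) {A : GL (Fin 3) F} (h : IsTv (A : M3)) : orderOf A = p := by
  apply orderOf_eq_prime
  · apply Units.ext
    rw [Units.val_pow_eq_pow_val, Units.val_one]
    exact pow_char_of (p := p) h.cube hp3
  · intro h1
    exact h.ne_scalar 1 (by rw [h1, Units.val_one, one_smul])

include hp hcp in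
theorem IsRu.orderOf (hp3 : 3 ≤ p) {A : GL (Fin 3) F} (h : IsRu (A : M3)) : orderOf A = p := by
  apply orderOf_eq_prime
  · apply Units.ext
    rw [Units.val_pow_eq_pow_val, Units.val_one]
    exact pow_char_of (p := p) h.1 hp3
  · intro h1
    apply h.2
    rw [h1, Units.val_one, sub_self, zero_pow two_ne_zero]

include hp hcp in
/-- a group with cyclic Sylow `p`-subgroups of order `p` does not contain both kinds of elements -/
theorem no_tv_ru [Finite F] (hp3 : 3 ≤ p) {H : Subgroup (GL (Fin 3) F)} (h2 : ¬ p ^ 2 ∣ Nat.card H)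
    {t u : GL (Fin 3) F} (ht : t ∈ H) (hu : u ∈ H) (hT : IsTv (t : M3)) (hU : IsRu (u : M3)) : False := by
  classical
  have hfin : Finite (GL (Fin 3) F) := inferInstance
  let t' : H := ⟨t, ht⟩
  let u' : H := ⟨u, hu⟩
  have hot : _root_.orderOf t' = p := by rw [← Subgroup.orderOf_coe]; exact hT.orderOf hp3
  have hou : _root_.orderOf u' = p := by rw [← Subgroup.orderOf_coe]; exact hU.orderOf hp3
  have hd : p ∣ Nat.card H := by rw [← hot]; exact orderOf_dvd_natCard _
  have hf : (Nat.card H).factorization p = 1 := by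
    have h3 : 1 ≤ (Nat.card H).factorization p :=
      (hp.out.dvd_iff_one_le_factorization Nat.card_pos.ne').1 hd
    have h4 : ¬ 2 ≤ (Nat.card H).factorization p := fun h =>
      h2 ((hp.out.pow_dvd_iff_le_factorization Nat.card_pos.ne').2 h)
    omega
  let P : Sylow p H := Sylow.ofCard (Subgroup.zpowers t') (by rw [Nat.card_zpowers, hot, hf, pow_one])
  let Q : Sylow p H := Sylow.ofCard (Subgroup.zpowers u') (by rw [Nat.card_zpowers, hou, hf, pow_one])
  obtain ⟨g, hg⟩ := MulAction.exists_smul_eq H P Q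
  have h3 : u' ∈ (Q : Subgroup H) := Subgroup.mem_zpowers u'
  rw [← hg, Sylow.coe_subgroup_smul, Subgroup.mem_smul_pointwise_iff_exists] at h3
  obtain ⟨s, hs, hsu⟩ := h3
  have hs' : s ∈ Subgroup.zpowers t' := hs
  rw [mem_zpowers_iff_mem_range_orderOf, Finset.mem_image] at hs'
  obtain ⟨k, -, hk⟩ := hs'
  have h4 : g * t' ^ k * g⁻¹ = u' := by rw [hk]; exact hsu
  have h5 : (u : M3) = ((g : GL (Fin 3) F) : M3) * (t : M3) ^ k * (((g : GL (Fin 3) F)⁻¹ : GL (Fin 3) F) : M3) := by
    have h6 : (g : GL (Fin 3) F) * t ^ k * (g : GL (Fin 3) F)⁻¹ = u := congrArg Subtype.val h4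
    rw [← h6, Units.val_mul, Units.val_mul, Units.val_pow_eq_pow_val]
  apply hU.2
  rw [h5, sub_one_conj, sq_pow hT.sq, Matrix.mul_zero, Matrix.zero_mul]

end char

end Cfsg.Agent.H746.OddM.Three
end
end

-- part: H660/OddM/RealLin
section
prune_inst 0x4000034045422000000188084410002403400008000008c000481004001092042a540084001200115482080000004006000000080404000000e000400000100000080020030400008400090000180000000000000000000000000000000000000000000000
set_option linter.all false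
open scoped Cfsg.Agent.FastGrp

/-!
# Real elements of odd order in `SL(2,q)`, `Sp(2m,q)`, `SL(n,q)`, `SU(n,q)`, `q` odd (TEAM ODDM, S4785, piece C1a)

For `v` odd, `v ∣ q ^ k - 1` or `v ∣ q ^ k + 1`:

* `realP_sl_two`      : `k = 1`, `SL(2, q)`
* `realP_sp`, `realP_psp` : `1 ≤ k ≤ m`
* `realP_sl`, `realP_psl` : `1 ≤ k`, `2 k ≤ n`
* `realP_su`, `realP_psu` : `1 ≤ k`, `2 k ≤ n`
* `dvd_iff_of_prime_pow`  : for `v = r ^ a`, `r` an odd prime:  `v ∣ q ^ (2 k) - 1` iff one of the two holds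
* `realP_psp_ord`, `realP_psl_ord`, `realP_psu_ord` : in terms of `e = orderOf (q : ZMod r)`.
-/

set_option autoImplicit false

namespace Cfsg.Agent.H453.OddM

open Matrix
open Cfsg.Agent.H376

/-! ### general facts -/

theorem realP_of_injective {S T : Type*} [Group S] [Group T] (f : S →* T) (hf : Function.Injective f) {v : ℕ}
    (h : RealP S v) : RealP T v := by
  obtain ⟨x, hx, hr⟩ := h
  exact ⟨f x, by rw [orderOf_injective f hf, hx], hr.map f⟩

/-- a real element of odd order keeps its order modulo the centre -/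
theorem realP_quot_center {G : Type*} [Group G] {v : ℕ} (hv : Odd v) (h : RealP G v) :
    RealP (G ⧸ Subgroup.center G) v := by
  obtain ⟨x, hx, hr⟩ := h
  refine ⟨QuotientGroup.mk' _ x, ?_, hr.map (QuotientGroup.mk' _)⟩
  rw [← hx, orderOf_eq_orderOf_iff]
  intro j
  constructor
  · intro hj
    have h1 : x ^ j ∈ Subgroup.center G := by
      rw [← map_pow] at hj
      exact (QuotientGroup.eq_one_iff _).1 hj
    obtain ⟨g, hg⟩ := hr.pow j
    rw [Subgroup.mem_center_iff] at h1
    rw [h1 g, mul_inv_cancel_right] at hg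
    have h2 : x ^ (j * 2) = 1 := by
      rw [pow_mul, pow_two]
      nth_rewrite 2 [hg]
      exact mul_inv_cancel _
    have h3 : v ∣ j * 2 := by rw [← hx]; exact orderOf_dvd_of_pow_eq_one h2
    have h4 : v ∣ j := (Nat.coprime_two_right.2 hv).dvd_of_dvd_mul_right h3
    rw [← hx] at h4
    exact orderOf_dvd_iff_pow_eq_one.1 h4
  · intro hj
    rw [← map_pow, hj, map_one]

/-! ### `SL(2, q)` -/

section SLTwo

variable {K : Type*} [Field K] [Finite K]

omit [Finite K] in
theorem dgMat_det (a : Kˣ) : (!![(a : K), 0; 0, ((a⁻¹ : Kˣ) : K)] : Matrix (Fin 2) (Fin 2) K).det = 1 := by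
  rw [Matrix.det_fin_two_of, mul_zero, sub_zero, ← Units.val_mul, mul_inv_cancel, Units.val_one]

/-- the diagonal torus -/
def dgHom (K : Type*) [Field K] : Kˣ →* _root_.Matrix.SpecialLinearGroup (Fin 2) K where
  toFun a := ⟨!![(a : K), 0; 0, ((a⁻¹ : Kˣ) : K)], dgMat_det a⟩
  map_one' := by
    apply Subtype.ext
    ext i j
    (revert i j; simp only [_root_.Fin.forall_fin_succ, _root_.Units.val_one, _root_.inv_one, _root_.Matrix.of_apply, _root_.Matrix.cons_val', _root_.Matrix.cons_val_fin_one, _root_.Matrix.SpecialLinearGroup.coe_one, Fin.isValue, _root_.Matrix.cons_val_zero, _root_.Matrix.cons_val_succ, _root_.IsEmpty.forall_iff, _root_.and_true, _root_.Matrix.one_apply_eq, Nat.reduceAdd, _root_.Fin.succ_zero_eq_one, _root_.ne_eq, _root_.zero_ne_one, _root_.not_false_eq_true, _root_.Matrix.one_apply_ne, _root_.and_self, _root_.Fin.succ_ne_zero, _root_.true_and])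
  map_mul' a b := by
    apply Subtype.ext
    show !![((a * b : Kˣ) : K), 0; 0, (((a * b)⁻¹ : Kˣ) : K)] =
      !![(a : K), 0; 0, ((a⁻¹ : Kˣ) : K)] * !![(b : K), 0; 0, ((b⁻¹ : Kˣ) : K)]
    ext i j
    (revert i j; simp [mul_comm, _root_.Fin.forall_fin_succ])

omit [Finite K] in
theorem dgHom_injective : Function.Injective (dgHom K) := by
  intro a b hab
  have h1 : (a : K) = b := congrFun (congrFun (congrArg (fun z : _root_.Matrix.SpecialLinearGroup (Fin 2) K => z.1) hab) 0) 0
  exact Units.ext h1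

/-- the antidiagonal element -/
def wElt (K : Type*) [Field K] : _root_.Matrix.SpecialLinearGroup (Fin 2) K :=
  ⟨!![0, 1; -1, 0], by rw [Matrix.det_fin_two_of]; ring⟩

omit [Finite K] in
theorem wElt_conj (a : Kˣ) : wElt K * dgHom K a * (wElt K)⁻¹ = (dgHom K a)⁻¹ := by
  rw [← map_inv, mul_inv_eq_iff_eq_mul]
  apply Subtype.ext
  show !![(0 : K), 1; -1, 0] * !![(a : K), 0; 0, ((a⁻¹ : Kˣ) : K)] =
    !![((a⁻¹ : Kˣ) : K), 0; 0, (((a⁻¹)⁻¹ : Kˣ) : K)] * !![(0 : K), 1; -1, 0]
  ext i j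
  (revert i j; simp [_root_.Fin.forall_fin_succ])

theorem realP_sl_two_split {v : ℕ} (h : v ∣ Nat.card K - 1) :
    RealP (_root_.Matrix.SpecialLinearGroup (Fin 2) K) v := by
  have hcard : Nat.card Kˣ = Nat.card K - 1 := by
    rw [Nat.card_units]
  obtain ⟨g, hg⟩ := IsCyclic.exists_generator (α := Kˣ)
  have hgo : orderOf g = Nat.card K - 1 := by rw [orderOf_eq_card_of_forall_mem_zpowers hg, hcard]
  have hK : 1 < Nat.card K := Finite.one_lt_card
  obtain ⟨a, ha⟩ : ∃ a : Kˣ, orderOf a = v := SpEmb.exists_of_dvd (by omega) h ⟨g, hgo⟩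
  exact ⟨dgHom K a, by rw [orderOf_injective _ dgHom_injective, ha], wElt K, wElt_conj a⟩

theorem realP_sl_two_nonsplit (h2 : (2 : K) ≠ 0) {v : ℕ} (hv : Odd v) (h : v ∣ Nat.card K + 1) :
    RealP (_root_.Matrix.SpecialLinearGroup (Fin 2) K) v := by
  classical
  let _ := Fintype.ofFinite K
  have hK : 1 < Nat.card K := Finite.one_lt_card
  obtain ⟨y, hy⟩ : ∃ y : _root_.Matrix.SpecialLinearGroup (Fin 2) K, orderOf y = v :=
    SpEmb.exists_of_dvd (by omega) h (SpEmb.exists_SL_two K)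
  by_cases hv1 : v = 1
  · refine ⟨1, by rw [orderOf_one, hv1], IsReal.one⟩
  have hyv : y ^ v = 1 := by rw [← hy, pow_orderOf_eq_one]
  have hyM : (y.1) ^ v = 1 := by
    have := congrArg Subtype.val hyv
    simpa only [_root_.Matrix.SpecialLinearGroup.coe_pow, _root_.Matrix.SpecialLinearGroup.coe_one] using this
  have hy1 : y ≠ 1 := by
    rintro rfl
    rw [orderOf_one] at hy
    exact hv1 hy.symm
  refine ⟨y, hy, ?_⟩
  have hconj := H610.SpField.sl_two_real h2 y fun t ht => ?_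
  · obtain ⟨g, hg⟩ := isConj_iff.1 hconj
    exact ⟨g, hg⟩
  -- `t` is an eigenvalue
  have hroot : y.1.charpoly.IsRoot t := by
    rw [Matrix.charpoly_fin_two, Polynomial.IsRoot.def]
    simp only [Polynomial.eval_add, Polynomial.eval_sub, Polynomial.eval_pow, Polynomial.eval_X,
      Polynomial.eval_mul, Polynomial.eval_C]
    rw [y.2, Matrix.trace_fin_two]
    exact ht
  have ht0 : t ≠ 0 := by
    rintro rfl
    simp at ht
  have htv : t ^ v = 1 := by
    have h1 : (Matrix.toLin' y.1).charpoly.IsRoot t := by rwa [Matrix.charpoly_toLin']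
    have h3 := (Module.End.hasEigenvalue_iff_isRoot_charpoly (Matrix.toLin' y.1) t).2 h1
    obtain ⟨w, hw⟩ := h3.exists_hasEigenvector
    have h4 := hw.apply_eq_smul
    rw [Matrix.toLin'_apply] at h4
    have h5 : ∀ j : ℕ, (y.1 ^ j) *ᵥ w = t ^ j • w := by
      intro j
      induction j with
      | zero => simp
      | succ j ih => rw [pow_succ', ← Matrix.mulVec_mulVec, ih, Matrix.mulVec_smul, h4, smul_smul, pow_succ]
    have h6 := h5 v
    rw [hyM, Matrix.one_mulVec] at h6
    have h7 : (t ^ v - 1) • w = 0 := by rw [sub_smul, one_smul, ← h6, sub_self]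
    rcases smul_eq_zero.1 h7 with h8 | h8
    · exact sub_eq_zero.1 h8
    · exact absurd h8 hw.2
  have ht1 : t = 1 := by
    have h3 : t ^ (Fintype.card K - 1) = 1 := FiniteField.pow_card_sub_one_eq_one t ht0
    rw [Nat.card_eq_fintype_card] at h hK
    have h4 : Nat.Coprime v (Fintype.card K - 1) := by
      have h5 : Nat.gcd v (Fintype.card K - 1) ∣ 2 := by
        have h6 : Nat.gcd v (Fintype.card K - 1) ∣ Fintype.card K + 1 := (Nat.gcd_dvd_left _ _).trans h
        have h7 : Nat.gcd v (Fintype.card K - 1) ∣ Fintype.card K - 1 := Nat.gcd_dvd_right _ _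
        have h8 := (Nat.dvd_add_right h7).1 (by
          rw [show Fintype.card K - 1 + 2 = Fintype.card K + 1 by omega]; exact h6)
        exact h8
      have h6 : Nat.Coprime v 2 := Nat.coprime_two_right.2 hv
      have h7 : Nat.gcd v (Fintype.card K - 1) ∣ Nat.gcd v 2 := Nat.dvd_gcd (Nat.gcd_dvd_left _ _) h5
      rw [h6] at h7
      exact Nat.dvd_one.1 h7
    have h5 : orderOf t ∣ 1 := by
      rw [← h4]
      exact Nat.dvd_gcd (orderOf_dvd_of_pow_eq_one htv) (orderOf_dvd_of_pow_eq_one h3)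
    exact orderOf_eq_one_iff.1 (Nat.dvd_one.1 h5)
  subst ht1
  -- `(y - 1) ^ 2 = 0`
  have htr : y.1 0 0 + y.1 1 1 = 2 := by linear_combination -ht
  have hCH := Matrix.aeval_self_charpoly y.1
  rw [Matrix.charpoly_fin_two, y.2, Matrix.trace_fin_two, htr] at hCH
  simp only [map_sub, map_add, map_mul, map_pow, Polynomial.aeval_X, Polynomial.aeval_C, map_one] at hCH
  set N : Matrix (Fin 2) (Fin 2) K := y.1 - 1 with hN
  have hNN : N * N = 0 := by
    have h3 : (algebraMap K (Matrix (Fin 2) (Fin 2) K)) 2 = 2 := by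
      rw [map_ofNat]
    rw [h3] at hCH
    rw [← hCH, hN]
    noncomm_ring
  have hpow : ∀ j : ℕ, y.1 ^ j = 1 + (j : K) • N := by
    intro j
    have hyN : y.1 = 1 + N := by rw [hN]; abel
    induction j with
    | zero => simp only [_root_.pow_zero, _root_.Nat.cast_zero, _root_.zero_smul, _root_.add_zero]
    | succ j ih =>
      rw [pow_succ, ih, hyN, add_mul, one_mul, mul_add, mul_one, smul_mul_assoc, hNN, smul_zero, add_zero]
      push_cast
      rw [add_smul, one_smul]
      abel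
  have h9 := hpow v
  rw [hyM, left_eq_add] at h9
  have hvK : (v : K) ≠ 0 := by
    intro h0
    obtain ⟨c, hc⟩ := h
    have h10 : ((Nat.card K + 1 : ℕ) : K) = 0 := by rw [hc]; push_cast; rw [h0, zero_mul]
    push_cast at h10
    rw [Nat.card_eq_fintype_card, FiniteField.cast_card_eq_zero, zero_add] at h10
    exact one_ne_zero h10
  rcases smul_eq_zero.1 h9 with h10 | h10
  · exact hvK h10
  · exact hy1 (Subtype.ext (by rw [hN, sub_eq_zero] at h10; exact h10))

theorem realP_sl_two (h2 : (2 : K) ≠ 0) {v : ℕ} (hv : Odd v) (h : v ∣ Nat.card K - 1 ∨ v ∣ Nat.card K + 1) :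
    RealP (_root_.Matrix.SpecialLinearGroup (Fin 2) K) v := by
  rcases h with h | h
  · exact realP_sl_two_split h
  · exact realP_sl_two_nonsplit h2 hv h

end SLTwo

/-! ### `Sp(2m, q)` -/

section Sp

variable {F : Type*} [Field F] [Fintype F]

theorem realP_sp_full (h2 : (2 : F) ≠ 0) {k v : ℕ} (hk : 1 ≤ k) (hv : Odd v)
    (h : v ∣ Fintype.card F ^ k - 1 ∨ v ∣ Fintype.card F ^ k + 1) :
    RealP (symplecticGroup (Fin k) F) v := by
  classical
  obtain ⟨p, hp⟩ := CharP.exists F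
  have hpp : Fact p.Prime := ⟨CharP.char_is_prime F p⟩
  have hk0 : NeZero k := ⟨by omega⟩
  let E := FiniteField.Extension F p k
  have : Finite E := inferInstance
  have : Fintype E := Fintype.ofFinite E
  have hE : Nat.card E = Fintype.card F ^ k := by
    rw [← Nat.card_eq_fintype_card]
    exact FiniteField.natCard_extension F p k
  have hE2 : (2 : E) ≠ 0 := by
    have h3 : algebraMap F E 2 ≠ 0 := by
      rw [Ne, FaithfulSMul.algebraMap_eq_zero_iff]
      exact h2
    rwa [map_ofNat] at h3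
  have hfin : Module.finrank F E = k := FiniteField.finrank_extension F p k
  let b : Module.Basis (Fin k) F E := Module.finBasisOfFinrankEq F E hfin
  exact realP_of_injective (H610.SpField.emb b) (H610.SpField.emb_injective b)
    (realP_sl_two hE2 hv (by rw [hE]; exact h))

omit [Fintype F] in
/-- `Sp_2k → Sp_2m` for `k ≤ m` -/
theorem exists_sp_sp {k m : ℕ} (hkm : k ≤ m) : ∃ f : symplecticGroup (Fin k) F →* symplecticGroup (Fin m) F,
    Function.Injective f := by
  obtain ⟨c, rfl⟩ := Nat.exists_eq_add_of_le hkm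
  refine ⟨(SpEmb.reidx finSumFinEquiv).comp ((SpEmb.blk (Fin k) (Fin c)).comp (MonoidHom.inl _ _)), ?_⟩
  exact (SpEmb.reidx_injective _).comp ((SpEmb.blk_injective _ _).comp (fun a b h => (Prod.ext_iff.1 h).1))

theorem realP_sp (h2 : (2 : F) ≠ 0) {m k v : ℕ} (hk : 1 ≤ k) (hkm : k ≤ m) (hv : Odd v)
    (h : v ∣ Fintype.card F ^ k - 1 ∨ v ∣ Fintype.card F ^ k + 1) : RealP (symplecticGroup (Fin m) F) v := by
  obtain ⟨f, hf⟩ := exists_sp_sp (F := F) hkm
  exact realP_of_injective f hf (realP_sp_full h2 hk hv h)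

theorem realP_psp (h2 : (2 : F) ≠ 0) {m k v : ℕ} (hk : 1 ≤ k) (hkm : k ≤ m) (hv : Odd v)
    (h : v ∣ Fintype.card F ^ k - 1 ∨ v ∣ Fintype.card F ^ k + 1) : RealP (PSp m F) v :=
  realP_quot_center hv (realP_sp h2 hk hkm hv h)

end Sp

/-! ### `SL(n, q)` -/

section SL

variable {F : Type*} [Field F]

/-- block sum with the identity -/
def slAddB {ι : Type*} [Fintype ι] [DecidableEq ι] (β : Type*) [Fintype β] [DecidableEq β] :
    _root_.Matrix.SpecialLinearGroup ι F →* _root_.Matrix.SpecialLinearGroup (ι ⊕ β) F where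
  toFun A := ⟨Matrix.fromBlocks A.1 0 0 1, by
    rw [Matrix.det_fromBlocks_zero₂₁, Matrix.det_one, mul_one, A.2]⟩
  map_one' := Subtype.ext (by
    show Matrix.fromBlocks (1 : Matrix ι ι F) 0 0 1 = 1
    rw [Matrix.fromBlocks_one])
  map_mul' A B := Subtype.ext (by
    show Matrix.fromBlocks (A.1 * B.1) 0 0 1 =
      Matrix.fromBlocks A.1 0 0 1 * Matrix.fromBlocks B.1 0 0 (1 : Matrix β β F)
    rw [Matrix.fromBlocks_multiply]
    simp only [_root_.Matrix.mul_zero, _root_.add_zero, _root_.Matrix.mul_one, _root_.Matrix.zero_mul, _root_.mul_one, _root_.zero_add])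

theorem slAddB_injective {ι : Type*} [Fintype ι] [DecidableEq ι] (β : Type*) [Fintype β] [DecidableEq β] :
    Function.Injective (slAddB (F := F) (ι := ι) β) := by
  intro A B h
  have h4 : Matrix.fromBlocks A.1 0 0 (1 : Matrix β β F) = Matrix.fromBlocks B.1 0 0 1 := congrArg Subtype.val h
  rw [Matrix.fromBlocks_inj] at h4
  exact Subtype.ext h4.1

theorem slReindex_injective {ι κ : Type*} [Fintype ι] [DecidableEq ι] [Fintype κ] [DecidableEq κ] (e : ι ≃ κ) :
    Function.Injective (H610.TableCl.slReindex (F := F) e) := by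
  intro A B hAB
  exact Subtype.ext ((Matrix.reindexAlgEquiv F F e).injective (congrArg Subtype.val hAB))

theorem un_fromBlocksB {ι β : Type*} [Fintype ι] [DecidableEq ι] [Fintype β] [DecidableEq β] {σ : F →+* F}
    {A : Matrix ι ι F} (h : H610.TableCl.Un σ A) :
    H610.TableCl.Un σ (Matrix.fromBlocks A 0 0 (1 : Matrix β β F)) := by
  unfold H610.TableCl.Un at *
  rw [Matrix.fromBlocks_map, Matrix.fromBlocks_transpose, Matrix.fromBlocks_multiply, h]
  simp only [_root_.map_zero, _root_.Matrix.map_zero, _root_.Matrix.transpose_zero, _root_.Matrix.mul_zero, _root_.add_zero, _root_.map_one, _root_.Matrix.map_one, _root_.Matrix.transpose_one, _root_.Matrix.mul_one, _root_.Matrix.zero_mul, _root_.mul_one, _root_.zero_add, _root_.Matrix.fromBlocks_one]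

theorem realP_sl [Fintype F] (h2 : (2 : F) ≠ 0) {n k v : ℕ} (hk : 1 ≤ k) (hkn : 2 * k ≤ n) (hv : Odd v)
    (h : v ∣ Fintype.card F ^ k - 1 ∨ v ∣ Fintype.card F ^ k + 1) : RealP (_root_.Matrix.SpecialLinearGroup (Fin n) F) v := by
  classical
  let e : (Fin k ⊕ Fin k) ⊕ Fin (n - 2 * k) ≃ Fin n := Fintype.equivFinOfCardEq (by
    rw [Fintype.card_sum, Fintype.card_sum, Fintype.card_fin, Fintype.card_fin]
    omega)
  refine realP_of_injective ((H610.TableCl.slReindex e).comp ((slAddB _).comp (H610.TableCl.spSL k))) ?_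
    (realP_sp_full h2 hk hv h)
  exact (slReindex_injective e).comp ((slAddB_injective _).comp
    (fun A B hAB => Subtype.ext (congrArg (fun z : _root_.Matrix.SpecialLinearGroup (Fin k ⊕ Fin k) F => z.1) hAB)))

theorem realP_psl [Fintype F] (h2 : (2 : F) ≠ 0) {n k v : ℕ} (hk : 1 ≤ k) (hkn : 2 * k ≤ n) (hv : Odd v)
    (h : v ∣ Fintype.card F ^ k - 1 ∨ v ∣ Fintype.card F ^ k + 1) :
    RealP (ProjectiveSpecialLinearGroup (Fin n) F) v :=
  realP_quot_center hv (realP_sl h2 hk hkn hv h)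

end SL

/-! ### `SU(n, q)` -/

section SU

variable {F : Type*} [Field F] [Fintype F]

/-- `Sp_2k(q) → SU_n(q)` for `q` odd, `2 k ≤ n` -/
theorem exists_sp_su {q : ℕ} (hF : Fintype.card F = q ^ 2) (h2 : (2 : F) ≠ 0) {n k : ℕ} (hkn : 2 * k ≤ n) :
    ∃ (K : Type) (_ : Field K) (_ : Fintype K), Fintype.card K = q ∧ (2 : K) ≠ 0 ∧
      ∃ g : symplecticGroup (Fin k) K →* SU n F q, Function.Injective g := by
  classical
  obtain ⟨σ, hσ⟩ := ClassicalGeometry.GUBasic.exists_powHom hF
  obtain ⟨l, hl⟩ := H610.TableL3.exists_norm_neg_one hF h2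
  obtain ⟨K, _, _, hK, ⟨f⟩⟩ := H610.TableCl.exists_subfield hF
  have hq := ClassicalGeometry.GUBasic.two_le hF
  have hσσ : ∀ x, σ (σ x) = x := by
    intro x
    rw [hσ, hσ, ← pow_mul, ← pow_two, ← hF]
    exact FiniteField.pow_card x
  have hσf : ∀ x, σ (f x) = f x := by
    intro x
    rw [hσ, ← map_pow, ← hK, FiniteField.pow_card]
  obtain ⟨x, hx⟩ : ∃ x, σ x ≠ x := by
    by_contra hcon
    push Not at hcon
    have h1 : (Finset.univ : Finset F).card ≤ q := by
      have h3 : ∀ x ∈ (Finset.univ : Finset F), x ∈ (Polynomial.X ^ q - Polynomial.X : Polynomial F).roots := by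
        intro x _
        rw [Polynomial.mem_roots (FiniteField.X_pow_card_sub_X_ne_zero F hq), Polynomial.IsRoot.def]
        simp only [Polynomial.eval_sub, Polynomial.eval_pow, Polynomial.eval_X]
        rw [← hσ, hcon, sub_self]
      have h4 : (Finset.univ : Finset F).val ≤ (Polynomial.X ^ q - Polynomial.X : Polynomial F).roots :=
        (Multiset.le_iff_subset Finset.univ.nodup).2 fun x hx => h3 x hx
      have h5 := Multiset.card_le_card h4
      have h6 := Polynomial.card_roots' (Polynomial.X ^ q - Polynomial.X : Polynomial F)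
      rw [FiniteField.X_pow_card_sub_X_natDegree_eq F hq] at h6
      exact h5.trans h6
    rw [Finset.card_univ, hF] at h1
    nlinarith only [hq, h1]
  have hd : H610.TableCl.Hd σ (x - σ x) l (1 / 2) :=
    { inv := hσσ
      half := by field_simp
      ne := sub_ne_zero.2 (Ne.symm hx)
      anti := by rw [map_sub, hσσ]; ring
      norm := by rw [hσ, ← pow_succ', hl] }
  have h2K : (2 : K) ≠ 0 := by
    intro h
    apply h2
    have := congrArg f h
    rwa [map_ofNat, map_zero] at this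
  refine ⟨K, inferInstance, inferInstance, hK, h2K, ?_⟩
  have hA : ∀ A : symplecticGroup (Fin k) K, H610.TableCl.Un σ (H610.TableCl.conjEquiv hd (A.1.map f)) := fun A =>
    H610.TableCl.un_conj hd (H610.TableCl.mem_symplectic_map f A.2) (by
      ext i j
      exact hσf _)
  have hinj : ∀ A B : symplecticGroup (Fin k) K,
      H610.TableCl.conjEquiv hd (A.1.map f) = H610.TableCl.conjEquiv hd (B.1.map f) → A = B := by
    intro A B hAB
    have h3 := (H610.TableCl.conjEquiv hd).injective hAB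
    apply Subtype.ext
    ext i j
    have h4 := congrFun (congrFun h3 i) j
    exact f.injective h4
  let e : (Fin k ⊕ Fin k) ⊕ Fin (n - 2 * k) ≃ Fin n := Fintype.equivFinOfCardEq (by
    rw [Fintype.card_sum, Fintype.card_sum, Fintype.card_fin, Fintype.card_fin]
    omega)
  let g : symplecticGroup (Fin k) K →* _root_.Matrix.SpecialLinearGroup (Fin n) F :=
    (H610.TableCl.slReindex e).comp ((slAddB _).comp (H610.TableCl.spC hd f k))
  have hg : Function.Injective g := (slReindex_injective e).comp ((slAddB_injective _).comp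
    (fun A B hAB => hinj A B (congrArg Subtype.val hAB)))
  have hun : ∀ A, H610.TableCl.Un σ (g A).1 := fun A => (un_fromBlocksB (hA A)).reindex e
  have hmem : ∀ A, g A ∈ SU n F q := fun A => H610.TableCl.mem_SU σ hσ _ (hun A)
  exact ⟨g.codRestrict _ hmem, fun A B hAB => hg (congrArg Subtype.val hAB)⟩

theorem realP_su {q : ℕ} (hF : Fintype.card F = q ^ 2) (h2 : (2 : F) ≠ 0) {n k v : ℕ} (hk : 1 ≤ k)
    (hkn : 2 * k ≤ n) (hv : Odd v) (h : v ∣ q ^ k - 1 ∨ v ∣ q ^ k + 1) : RealP (SU n F q) v := by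
  obtain ⟨K, _, _, rfl, h2K, g, hg⟩ := exists_sp_su hF h2 hkn
  exact realP_of_injective g hg (realP_sp_full h2K hk hv h)

theorem realP_psu {q : ℕ} (hF : Fintype.card F = q ^ 2) (h2 : (2 : F) ≠ 0) {n k v : ℕ} (hk : 1 ≤ k)
    (hkn : 2 * k ≤ n) (hv : Odd v) (h : v ∣ q ^ k - 1 ∨ v ∣ q ^ k + 1) : RealP (PSU n F q) v :=
  realP_quot_center hv (realP_su hF h2 hk hkn hv h)

end SU

/-! ### prime powers and primitive primes -/

section Pow

theorem dvd_iff_of_prime_pow {q k r a : ℕ} (hr : r.Prime) (hr2 : r ≠ 2) (hq : 1 ≤ q) :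
    r ^ a ∣ q ^ (2 * k) - 1 ↔ r ^ a ∣ q ^ k - 1 ∨ r ^ a ∣ q ^ k + 1 := by
  have h1 : q ^ (2 * k) - 1 = (q ^ k + 1) * (q ^ k - 1) := by
    have := Nat.sq_sub_sq (q ^ k) 1
    rw [one_pow] at this
    rw [← this, mul_comm 2 k, pow_mul]
  have hqk : 1 ≤ q ^ k := Nat.one_le_pow _ _ hq
  rw [h1]
  constructor
  · intro h
    by_cases h3 : r ∣ q ^ k + 1
    · right
      have h4 : ¬ r ∣ q ^ k - 1 := by
        intro h4
        have h5 := (Nat.dvd_add_right h4).1 (by rwa [show q ^ k - 1 + 2 = q ^ k + 1 by omega])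
        exact hr2 ((Nat.prime_dvd_prime_iff_eq hr Nat.prime_two).1 h5)
      exact (Nat.Coprime.pow_left a ((Nat.Prime.coprime_iff_not_dvd hr).2 h4)).dvd_of_dvd_mul_right h
    · left
      exact (Nat.Coprime.pow_left a ((Nat.Prime.coprime_iff_not_dvd hr).2 h3)).dvd_of_dvd_mul_left h
  · rintro (h | h)
    · exact h.mul_left _
    · exact h.mul_right _

theorem odd_prime_pow {r a : ℕ} (hr : r.Prime) (hr2 : r ≠ 2) : Odd (r ^ a) := (hr.odd_of_ne_two hr2).pow

theorem exists_half {q e r a n : ℕ} (hr : r.Prime) (hr2 : r ≠ 2) (hq : 1 ≤ q) (he : 1 ≤ e)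
    (h : Even e ∧ e ≤ n ∨ 2 * e ≤ n) (hd : r ^ a ∣ q ^ e - 1) :
    ∃ k, 1 ≤ k ∧ 2 * k ≤ n ∧ (r ^ a ∣ q ^ k - 1 ∨ r ^ a ∣ q ^ k + 1) := by
  rcases h with ⟨⟨k, hk⟩, hn⟩ | hn
  · have h3 : e = 2 * k := by omega
    subst h3
    exact ⟨k, by omega, by omega, (dvd_iff_of_prime_pow hr hr2 hq).1 hd⟩
  · exact ⟨e, he, hn, Or.inl hd⟩

variable {F : Type*} [Field F] [Fintype F]

/-- `r` an odd prime, `r ^ a ∣ q ^ e - 1`, `e` even and `e ≤ 2 m`, or `e ≤ m` -/
theorem realP_psp_pow (h2 : (2 : F) ≠ 0) {m e r a : ℕ} (hr : r.Prime) (hr2 : r ≠ 2) (he : 1 ≤ e)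
    (h : Even e ∧ e ≤ 2 * m ∨ e ≤ m) (hd : r ^ a ∣ Fintype.card F ^ e - 1) : RealP (PSp m F) (r ^ a) := by
  obtain ⟨k, hk, hkn, h3⟩ := exists_half (n := 2 * m) hr hr2 Fintype.card_pos he
    (h.imp id (fun h => by omega)) hd
  exact realP_psp h2 hk (by omega) (odd_prime_pow hr hr2) h3

/-- `r` an odd prime, `r ^ a ∣ q ^ e - 1`, `e` even and `e ≤ n`, or `2 e ≤ n` -/
theorem realP_psl_pow (h2 : (2 : F) ≠ 0) {n e r a : ℕ} (hr : r.Prime) (hr2 : r ≠ 2) (he : 1 ≤ e)
    (h : Even e ∧ e ≤ n ∨ 2 * e ≤ n) (hd : r ^ a ∣ Fintype.card F ^ e - 1) :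
    RealP (ProjectiveSpecialLinearGroup (Fin n) F) (r ^ a) := by
  obtain ⟨k, hk, hkn, h3⟩ := exists_half hr hr2 Fintype.card_pos he h hd
  exact realP_psl h2 hk hkn (odd_prime_pow hr hr2) h3

theorem dvd_of_ord {q r e : ℕ} (hq : 1 ≤ q) (he : orderOf ((q : ℕ) : ZMod r) = e) : r ^ 1 ∣ q ^ e - 1 := by
  rw [pow_one]
  exact (Cfsg.Agent.Lib.Zsigmondy.dvd_pow_sub_one_iff hq e).2 (by rw [he])

theorem realP_psl_ord (h2 : (2 : F) ≠ 0) {n e r : ℕ} (hr : r.Prime) (hr2 : r ≠ 2)
    (he : orderOf ((Fintype.card F : ℕ) : ZMod r) = e) (he1 : 1 ≤ e) (h : Even e ∧ e ≤ n ∨ 2 * e ≤ n) :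
    RealP (ProjectiveSpecialLinearGroup (Fin n) F) r := by
  have := realP_psl_pow (a := 1) h2 hr hr2 he1 h (dvd_of_ord Fintype.card_pos he)
  rwa [pow_one] at this

end Pow

end Cfsg.Agent.H453.OddM
end

-- part: H746/OddM/ThreeUEl
section
prune_inst 0x4054074446d2202000018858471201e46b60004b200088400ace1024207898c2085822861a7300015caa880450035006000100180404000000e0000000118018000000200b1480008460098000180000000000000000000000000000000000004000000000
set_option linter.all false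
open scoped Cfsg.Agent.FastGrp

/-!
# S4785: real elements of `SU_3(q)`, `q` odd (helper746, TEAM ODDM)

* `exists_tv`: a real transvection; `exists_ru`: a real regular unipotent element, its fixed vectors are isotropic;
* `exists_eg`: `diag(1, lam, lam⁻¹)`, `lam` of order `q + 1`.
-/

set_option autoImplicit false

namespace Cfsg.Agent.H746.OddM.ThreeU

open Cfsg Cfsg.Geo Matrix Cfsg.Agent.LieClassical.HermBasic Cfsg.Agent.LieClassical.HermSiegel
  Cfsg.Agent.H746.OddM.Three Cfsg.Agent.H453.OddM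
open scoped MatrixGroups

variable {F : Type*} [Field F] [Fintype F] {q : ℕ}

local notation "V3" => Fin 3 → F
local notation "M3" => Matrix (Fin 3) (Fin 3) F

omit [Fintype F] in
theorem herm_act (A : SU 3 F q) (x y : V3) : hermForm 3 F q (act A x) (act A y) = hermForm 3 F q x y := A.2 x y

/-- an isotropic vector orthogonal to `e_0` -/
theorem exists_iso (hF : Fintype.card F = q ^ 2) (hq : Odd q) :
    ∃ w : V3, w ≠ 0 ∧ w 0 = 0 ∧ hermForm 3 F q w w = 0 ∧ ∀ v : V3, v 0 = 0 → hermForm 3 F q v w = 0 →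
      hermForm 3 F q v v = 0 := by
  obtain ⟨ε, hε⟩ := _root_.Cfsg.Agent.LieClassical.HermBasic.exists_norm_eq hF (c := (-1 : F)) hq.neg_one_pow
  have hq0 : q ≠ 0 := hq.pos.ne'
  refine ⟨![0, 1, ε], ?_, rfl, ?_, ?_⟩
  · intro h
    have := congrFun h 1
    simp at this
  · rw [herm_def, Fin.sum_univ_three]
    simp [hε, hq0]
  · intro v hv hvw
    rw [herm_def, Fin.sum_univ_three] at hvw ⊢
    simp only [Matrix.cons_val_zero, Matrix.cons_val_one, Matrix.cons_val, one_pow, mul_one] at hvw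
    rw [hv, zero_mul, zero_add] at hvw
    have h1 : v 1 = -(v 2 * ε ^ q) := eq_neg_of_add_eq_zero_left hvw
    rw [hv, zero_mul, zero_add, h1, hq.neg_pow, mul_pow, pow_q_pow_q hF]
    linear_combination (v 2 * v 2 ^ q) * hε

/-- **a real transvection** -/
theorem exists_tv (hF : Fintype.card F = q ^ 2) (hq : Odd q) :
    ∃ t : SU 3 F q, IsReal t ∧ IsTv (mat t) := by
  obtain ⟨w, hw0, -, hw, -⟩ := exists_iso hF hq
  obtain ⟨c, hc0, hc⟩ := exists_trace_zero_ne hF
  obtain ⟨a, ha⟩ := _root_.Cfsg.Agent.LieClassical.HermBasic.exists_norm_eq hF (c := (-1 : F)) hq.neg_one_pow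
  have ha0 : a ≠ 0 := by
    rintro rfl
    rw [zero_mul] at ha
    exact one_ne_zero (neg_eq_zero.1 ha.symm)
  obtain ⟨g, -, hg⟩ := Cfsg.Agent.LieClassical.HermGen.exists_map_iso (n := 3) hF le_rfl le_rfl
    (Cfsg.Agent.LieClassical.HermGen.mem_coordSub_top w)
    (Cfsg.Agent.LieClassical.HermGen.mem_coordSub_top (a • w)) hw0 (smul_ne_zero ha0 hw0) hw
    (by rw [herm_smul_left, herm_smul_right, hw, mul_zero, mul_zero])
  set t := Cfsg.Agent.ClassicalGeometry.UnitTransv.utv hF w c hw hc with ht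
  have hact : ∀ x, act t x = x + (c * hermForm 3 F q x w) • w := fun x =>
    Cfsg.Agent.ClassicalGeometry.UnitTransv.act_utv hF hw hc x
  refine ⟨t, ⟨g, ?_⟩, ?_⟩
  · apply eq_inv_of_mul_eq_one_left
    apply Cfsg.Agent.ClassicalGeometry.UnitTransv.ext_act
    intro x
    change act (g * t * g⁻¹ * t) x = act 1 x
    rw [act_one, act_mul, act_mul, act_mul, hact x, hact, act_add, act_act_inv, act_smul, hg]
    have h1 : ∀ y, hermForm 3 F q (act g⁻¹ y) w = a ^ q * hermForm 3 F q y w := by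
      intro y
      rw [← herm_act g, act_act_inv, hg, herm_smul_right]
    rw [h1, herm_add_left, herm_smul_left, hw, mul_zero, add_zero, smul_smul, add_assoc, ← add_smul]
    have h2 : c * hermForm 3 F q x w + c * (a ^ q * hermForm 3 F q x w) * a = 0 := by
      linear_combination (c * hermForm 3 F q x w) * ha
    rw [h2, zero_smul, add_zero]
  · obtain ⟨z, hz⟩ := exists_herm_ne_zero hF hw0
    have hz' : hermForm 3 F q z w ≠ 0 := fun h => hz (herm_eq_zero_swap hF h)
    refine ⟨fun j => c * w j ^ q, w, ?_, ?_, hw0, ?_⟩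
    · have : (fun j => c * w j ^ q) ⬝ᵥ w = c * hermForm 3 F q w w := by
        rw [dotProduct, herm_def, Finset.mul_sum]
        exact Finset.sum_congr rfl fun i _ => by ring
      rw [this, hw, mul_zero]
    · intro h
      apply hz'
      have : (fun j => c * w j ^ q) ⬝ᵥ z = c * hermForm 3 F q z w := by
        rw [dotProduct, herm_def, Finset.mul_sum]
        exact Finset.sum_congr rfl fun i _ => by ring
      rw [h, zero_dotProduct] at this
      exact (mul_eq_zero.1 this.symm).resolve_left hc0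
    · apply Matrix.ext_of_mulVec_single
      intro i
      rw [tv_mulVec]
      have := hact (Pi.single i 1)
      rw [act_def] at this
      rw [this]
      congr 2
      rw [dotProduct, herm_def, Finset.mul_sum]
      exact Finset.sum_congr rfl fun i _ => by ring

/-- the involution with `+1`-eigenspace `⟨b⟩` -/
theorem exists_refl (hF : Fintype.card F = q ^ 2) {b : V3} (hb : hermForm 3 F q b b = 1) :
    ∃ s : SU 3 F q, s ^ 2 = 1 ∧ ∀ x, act s x = -x + (2 * hermForm 3 F q x b) • b := by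
  have h2q : (2 : F) ^ q = 2 := by
    have := add_pow_q hF (1 : F) 1
    rw [one_pow] at this
    norm_num at this
    exact this
  set M : M3 := -Cfsg.Agent.ClassicalGeometry.UnitTransv.rankOne q ((-2 : F) • b) b with hM
  have hMv : ∀ x, M *ᵥ x = -x + (2 * hermForm 3 F q x b) • b := by
    intro x
    rw [hM, Matrix.neg_mulVec, Cfsg.Agent.ClassicalGeometry.UnitTransv.rankOne_mulVec, smul_smul, neg_add,
      ← neg_smul]
    congr 2
    ring
  have hdet : M.det = 1 := by
    rw [hM, Matrix.det_neg, Cfsg.Agent.ClassicalGeometry.UnitTransv.det_rankOne, herm_smul_left, hb,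
      Fintype.card_fin]
    norm_num
  have hherm : ∀ x y, hermForm 3 F q (M *ᵥ x) (M *ᵥ y) = hermForm 3 F q x y := by
    intro x y
    rw [hMv, hMv, herm_add_left, herm_add_right hF, herm_add_right hF, herm_neg_left, herm_neg_right hF,
      herm_neg_right hF, herm_neg_left, herm_smul_left, herm_smul_right, herm_smul_left, herm_smul_right, hb,
      mul_pow, h2q, ← herm_swap hF y b]
    ring
  refine ⟨Cfsg.Agent.ClassicalGeometry.UnitTransv.mk M hdet hherm, ?_, fun x => hMv x⟩
  apply Cfsg.Agent.ClassicalGeometry.UnitTransv.ext_act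
  intro x
  rw [pow_two, Cfsg.Agent.ClassicalGeometry.UnitTransv.act_mul, Cfsg.Agent.ClassicalGeometry.UnitTransv.act_one,
    Cfsg.Agent.ClassicalGeometry.UnitTransv.act_mk, Cfsg.Agent.ClassicalGeometry.UnitTransv.act_mk, hMv, hMv,
    herm_add_left, herm_neg_left, herm_smul_left, hb, neg_add, neg_neg, ← neg_smul, add_assoc, ← add_smul]
  have : -(2 * hermForm 3 F q x b) + 2 * (-hermForm 3 F q x b + 2 * hermForm 3 F q x b * 1) = 0 := by ring
  rw [this, zero_smul, add_zero]

/-- **a real regular unipotent element** -/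
theorem exists_ru (hF : Fintype.card F = q ^ 2) (hq : Odd q) (h2 : (2 : F) ≠ 0) :
    ∃ u : SU 3 F q, IsReal u ∧ IsRu (mat u) ∧ ∀ v, act u v = v → hermForm 3 F q v v = 0 := by
  obtain ⟨w, hw0, hw1, hw, hker⟩ := exists_iso hF hq
  set e : V3 := Pi.single 0 1 with he
  have hee : hermForm 3 F q e e = 1 := by rw [he, herm_single_left, Pi.single_eq_same]; simp
  have hwe : hermForm 3 F q w e = 0 := by rw [he, herm_single_right hF, hw1, zero_mul]
  have hew : hermForm 3 F q e w = 0 := herm_eq_zero_swap hF hwe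
  obtain ⟨s, hs, hsx⟩ := exists_refl hF hee
  obtain ⟨t, ht, htx⟩ := exists_refl hF (b := e + w) (by
    rw [herm_add_left, herm_add_right hF, herm_add_right hF, hee, hwe, hew, hw]; ring)
  have hact : ∀ x, act (s * t) x = x + (2 * hermForm 3 F q x w) • e -
      (2 * (hermForm 3 F q x e + hermForm 3 F q x w)) • w := by
    intro x
    rw [act_mul, hsx, htx, herm_add_left, herm_neg_left, herm_smul_left, herm_add_left, hee, hwe,
      herm_add_right hF]
    module
  have hN : ∀ x, (mat (s * t) - 1) *ᵥ x = (2 * hermForm 3 F q x w) • e -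
      (2 * (hermForm 3 F q x e + hermForm 3 F q x w)) • w := by
    intro x
    rw [Matrix.sub_mulVec, Matrix.one_mulVec]
    have := hact x
    rw [act_def] at this
    rw [this]
    abel
  have hNw : ∀ x, hermForm 3 F q ((mat (s * t) - 1) *ᵥ x) w = 0 := by
    intro x
    rw [hN, herm_sub_left, herm_smul_left, herm_smul_left, hew, hw]; ring
  have hNe : ∀ x, hermForm 3 F q ((mat (s * t) - 1) *ᵥ x) e = 2 * hermForm 3 F q x w := by
    intro x
    rw [hN, herm_sub_left, herm_smul_left, herm_smul_left, hee, hwe]; ring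
  have hN2 : ∀ x, (mat (s * t) - 1) *ᵥ ((mat (s * t) - 1) *ᵥ x) = (-(4 * hermForm 3 F q x w)) • w := by
    intro x
    rw [hN ((mat (s * t) - 1) *ᵥ x), hNw, hNe]
    rw [mul_zero, zero_smul, zero_sub, ← neg_smul]
    congr 1
    ring
  have h4 : (4 : F) ≠ 0 := by
    have : (4 : F) = 2 * 2 := by norm_num
    rw [this]; exact mul_ne_zero h2 h2
  refine ⟨s * t, IsReal.of_mul hs ht, ⟨?_, ?_⟩, ?_⟩
  · apply Matrix.ext_of_mulVec_single
    intro i
    rw [Matrix.zero_mulVec, pow_succ', pow_two, ← Matrix.mulVec_mulVec, ← Matrix.mulVec_mulVec]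
    have h5 := hN2 ((mat (s * t) - 1) *ᵥ (Pi.single i 1))
    rw [hNw, mul_zero, neg_zero, zero_smul] at h5
    exact h5
  · intro h0
    obtain ⟨z, hz⟩ := exists_herm_ne_zero hF hw0
    have hz' : hermForm 3 F q z w ≠ 0 := fun h => hz (herm_eq_zero_swap hF h)
    have h5 := hN2 z
    rw [Matrix.mulVec_mulVec, ← pow_two, h0, Matrix.zero_mulVec] at h5
    have h6 := (smul_eq_zero.1 h5.symm).resolve_right hw0
    exact (mul_ne_zero h4 hz') (neg_eq_zero.1 h6)
  · intro v hv
    have h5 : (mat (s * t) - 1) *ᵥ v = 0 := by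
      rw [Matrix.sub_mulVec, Matrix.one_mulVec, ← act_def, hv, sub_self]
    have h6 := hN2 v
    rw [h5, Matrix.mulVec_zero] at h6
    have h7 : hermForm 3 F q v w = 0 := by
      have := (smul_eq_zero.1 h6.symm).resolve_right hw0
      exact (mul_eq_zero.1 (neg_eq_zero.1 this)).resolve_left h4
    have h8 := hN v
    rw [h5, h7, mul_zero, zero_smul, zero_sub, add_zero] at h8
    have h9 : v 0 = 0 := by
      have := (smul_eq_zero.1 (neg_eq_zero.1 h8.symm)).resolve_right hw0
      have h10 := (mul_eq_zero.1 this).resolve_left h2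
      rwa [he, herm_single_right hF, one_pow, mul_one] at h10
    exact hker v h9 h7

/-- **a real diagonal element** -/
theorem exists_eg (hF : Fintype.card F = q ^ 2) (hq : Odd q) :
    ∃ (lam : Fˣ) (x : SU 3 F q), orderOf lam = q + 1 ∧ IsReal x ∧ mat x = Matrix.diagonal ![1, (lam : F), (lam : F)⁻¹] := by
  classical
  have hq0 : 0 < q := hq.pos
  have hcard : Nat.card Fˣ = (q + 1) * (q - 1) := card_units_eq hF
  obtain ⟨g, hg⟩ := IsCyclic.exists_generator (α := Fˣ)
  have hog : orderOf g = (q + 1) * (q - 1) := by rw [orderOf_eq_card_of_forall_mem_zpowers hg, hcard]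
  have hpos : 0 < q - 1 := by
    have := two_le hF
    omega
  set lam : Fˣ := g ^ (q - 1) with hlam
  have hol : orderOf lam = q + 1 := by
    rw [hlam, orderOf_pow_of_dvd hpos.ne' (by rw [hog]; exact Dvd.intro_left _ rfl), hog,
      Nat.mul_div_cancel _ hpos]
  have hlq : lam * lam ^ q = 1 := by rw [← pow_succ', ← hol, pow_orderOf_eq_one]
  have hlqF : (lam : F) * (lam : F) ^ q = 1 := by
    have := congrArg Units.val hlq
    simpa only [_root_.Units.val_mul, _root_.Units.val_pow_eq_pow_val, _root_.Units.val_one] using this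
  have hlqi : (lam : F)⁻¹ * ((lam : F)⁻¹) ^ q = 1 := by rw [inv_pow, ← mul_inv, hlqF, inv_one]
  have hherm : ∀ x y : V3, hermForm 3 F q (Matrix.diagonal ![1, (lam : F), (lam : F)⁻¹] *ᵥ x)
      (Matrix.diagonal ![1, (lam : F), (lam : F)⁻¹] *ᵥ y) = hermForm 3 F q x y := by
    intro x y
    rw [herm_def, herm_def, Fin.sum_univ_three, Fin.sum_univ_three]
    simp only [Matrix.mulVec_diagonal, Matrix.cons_val_zero, Matrix.cons_val_one, Matrix.cons_val, one_mul, mul_pow]
    linear_combination (x 1 * y 1 ^ q) * hlqF + (x 2 * y 2 ^ q) * hlqi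
  have hdet : (Matrix.diagonal ![1, (lam : F), (lam : F)⁻¹]).det = 1 := by
    rw [Matrix.det_diagonal, Fin.prod_univ_three]
    simp
  -- the swap
  have e1 : ∀ z : V3, (!![-1, 0, 0; 0, 0, 1; 0, 1, 0] : M3) *ᵥ z = ![-z 0, z 2, z 1] := by
    intro z
    ext i
    (revert i; simp only [Matrix.mulVec, dotProduct, Fin.sum_univ_three, _root_.Fin.forall_fin_succ, _root_.Matrix.of_apply, _root_.Matrix.cons_val', _root_.Matrix.cons_val_fin_one, Fin.isValue, _root_.Matrix.cons_val_zero, _root_.Matrix.cons_val_one, _root_.Matrix.cons_val, _root_.Nat.succ_eq_add_one, Nat.reduceAdd, _root_.neg_mul, _root_.one_mul, _root_.MulZeroClass.zero_mul, _root_.add_zero, _root_.Matrix.cons_val_succ, _root_.zero_add, _root_.implies_true, _root_.and_self])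
  have e2 : ∀ z : V3, Matrix.diagonal ![1, (lam : F), (lam : F)⁻¹] *ᵥ z = ![z 0, lam * z 1, (lam : F)⁻¹ * z 2] := by
    intro z
    ext i
    (revert i; simp only [Matrix.mulVec_diagonal, _root_.Fin.forall_fin_succ, _root_.Nat.succ_eq_add_one, Nat.reduceAdd, Fin.isValue, _root_.Matrix.cons_val_zero, _root_.one_mul, _root_.Matrix.cons_val_succ, _root_.Fin.succ_zero_eq_one, _root_.Matrix.cons_val_fin_one, _root_.mul_eq_mul_left_iff, _root_.inv_eq_zero, _root_.Units.ne_zero, _root_.or_false, _root_.Fin.succ_one_eq_two, _root_.IsEmpty.forall_iff, _root_.and_self])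
  have hs : ∀ x y : V3, hermForm 3 F q ((!![-1, 0, 0; 0, 0, 1; 0, 1, 0] : M3) *ᵥ x)
      ((!![-1, 0, 0; 0, 0, 1; 0, 1, 0] : M3) *ᵥ y) = hermForm 3 F q x y := by
    intro x y
    rw [e1, e1, herm_def, herm_def, Fin.sum_univ_three, Fin.sum_univ_three]
    simp only [Matrix.cons_val_zero, Matrix.cons_val_one, Matrix.cons_val, hq.neg_pow]
    ring
  have hsd : (!![-1, 0, 0; 0, 0, 1; 0, 1, 0] : M3).det = 1 := by
    rw [Matrix.det_fin_three]
    simp
  let x : SU 3 F q := Cfsg.Agent.ClassicalGeometry.UnitTransv.mk _ hdet hherm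
  let s : SU 3 F q := Cfsg.Agent.ClassicalGeometry.UnitTransv.mk _ hsd hs
  refine ⟨lam, x, hol, ⟨s, ?_⟩, rfl⟩
  apply eq_inv_of_mul_eq_one_left
  have hss : s * s = 1 := by
    apply Cfsg.Agent.ClassicalGeometry.UnitTransv.ext_act
    intro z
    rw [Cfsg.Agent.ClassicalGeometry.UnitTransv.act_mul, Cfsg.Agent.ClassicalGeometry.UnitTransv.act_one,
      Cfsg.Agent.ClassicalGeometry.UnitTransv.act_mk, Cfsg.Agent.ClassicalGeometry.UnitTransv.act_mk, e1, e1]
    ext i
    (revert i; simp only [_root_.Fin.forall_fin_succ, _root_.Nat.succ_eq_add_one, Nat.reduceAdd, Fin.isValue, _root_.Matrix.cons_val_zero, _root_.neg_neg, _root_.Matrix.cons_val, _root_.Matrix.cons_val_one, _root_.Matrix.cons_val_succ, _root_.Fin.succ_zero_eq_one, _root_.Matrix.cons_val_fin_one, _root_.Fin.succ_one_eq_two, _root_.IsEmpty.forall_iff, _root_.and_self])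
  rw [show s⁻¹ = s from inv_eq_of_mul_eq_one_left hss]
  apply Cfsg.Agent.ClassicalGeometry.UnitTransv.ext_act
  intro z
  rw [Cfsg.Agent.ClassicalGeometry.UnitTransv.act_mul, Cfsg.Agent.ClassicalGeometry.UnitTransv.act_mul,
    Cfsg.Agent.ClassicalGeometry.UnitTransv.act_mul, Cfsg.Agent.ClassicalGeometry.UnitTransv.act_one,
    Cfsg.Agent.ClassicalGeometry.UnitTransv.act_mk, Cfsg.Agent.ClassicalGeometry.UnitTransv.act_mk,
    Cfsg.Agent.ClassicalGeometry.UnitTransv.act_mk, Cfsg.Agent.ClassicalGeometry.UnitTransv.act_mk, e1, e2, e1, e2]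
  ext i
  (revert i; simp only [_root_.Fin.forall_fin_succ, _root_.Nat.succ_eq_add_one, Nat.reduceAdd, Fin.isValue, _root_.Matrix.cons_val_zero, _root_.Matrix.cons_val, _root_.Matrix.cons_val_one, _root_.ne_eq, _root_.Units.ne_zero, _root_.not_false_eq_true, _root_.mul_inv_cancel_left₀, _root_.inv_mul_cancel_left₀, _root_.neg_neg, _root_.Matrix.cons_val_succ, _root_.Fin.succ_zero_eq_one, _root_.Matrix.cons_val_fin_one, _root_.Fin.succ_one_eq_two, _root_.IsEmpty.forall_iff, _root_.and_self])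

end Cfsg.Agent.H746.OddM.ThreeU
end

-- part: H729/OddAFour
section
set_option linter.all false
open scoped Cfsg.Agent.FastGrp

/-!
# Real elements of order 5 from four Coxeter generators of type `A₄` (helper729)

`realP_five` : `a - b - c - d` a chain of involutions (Coxeter relations of `A₄`) with `a ≠ b`: the product
`(a c) (b d)` is a real element of order `5`.
-/

set_option autoImplicit false
set_option linter.unusedSimpArgs false

namespace Cfsg.Agent.H729.OddAFour

open Cfsg Cfsg.Agent.H453.OddM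

variable {G : Type*} [Group G]

/-- braid relation from `(x y)^3 = 1` -/
theorem braid {x y : G} (hx : x * x = 1) (hy : y * y = 1) (h : (x * y) ^ 3 = 1) : y * (x * y) = x * (y * x) := by
  have h1 : x⁻¹ = x := (eq_inv_of_mul_eq_one_left hx).symm
  have h2 : y⁻¹ = y := (eq_inv_of_mul_eq_one_left hy).symm
  have h3 : (x * y * x) * (y * x * y) = 1 := by
    rw [← h, pow_succ, pow_two]; group
  have h4 : y * x * y = (x * y * x)⁻¹ := (inv_eq_of_mul_eq_one_right h3).symm
  rw [mul_inv_rev, mul_inv_rev, h1, h2] at h4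
  rw [← mul_assoc, h4]

/-- commutation from `(x y)^2 = 1` -/
theorem comm {x y : G} (hx : x * x = 1) (hy : y * y = 1) (h : (x * y) ^ 2 = 1) : y * x = x * y := by
  have h1 : x⁻¹ = x := (eq_inv_of_mul_eq_one_left hx).symm
  have h2 : y⁻¹ = y := (eq_inv_of_mul_eq_one_left hy).symm
  have h3 : (x * y)⁻¹ = x * y := by
    rw [pow_two] at h
    exact inv_eq_of_mul_eq_one_right h
  rw [mul_inv_rev, h1, h2] at h3
  exact h3

theorem eq_of_comm {x y : G} (hx : x * x = 1) (hy : y * y = 1) (h3 : (x * y) ^ 3 = 1) (h2 : y * x = x * y) :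
    x = y := by
  have h := braid hx hy h3
  have l : y * (x * y) = x := by rw [← mul_assoc, h2, mul_assoc, hy, mul_one]
  have r : x * (y * x) = y := by rw [h2, ← mul_assoc, hx, one_mul]
  rw [l, r] at h
  exact h

theorem pow_five {a b c d : G} (ha : a * a = 1) (hb : b * b = 1) (hc : c * c = 1) (hd : d * d = 1)
    (hab : (a * b) ^ 3 = 1) (hbc : (b * c) ^ 3 = 1) (hcd : (c * d) ^ 3 = 1)
    (hac : (a * c) ^ 2 = 1) (had : (a * d) ^ 2 = 1) (hbd : (b * d) ^ 2 = 1) :
    ((a * c) * (b * d)) ^ 5 = 1 := by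
  have a1 := ha
  have a2 : ∀ x, a * (a * x) = x := fun x => by rw [← mul_assoc, ha, one_mul]
  have b2 : ∀ x, b * (b * x) = x := fun x => by rw [← mul_assoc, hb, one_mul]
  have c2 : ∀ x, c * (c * x) = x := fun x => by rw [← mul_assoc, hc, one_mul]
  have d2 : ∀ x, d * (d * x) = x := fun x => by rw [← mul_assoc, hd, one_mul]
  have e1 : c * a = a * c := comm ha hc hac
  have e1' : ∀ x, c * (a * x) = a * (c * x) := fun x => by rw [← mul_assoc, e1, mul_assoc]
  have e2 : d * a = a * d := comm ha hd had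
  have e2' : ∀ x, d * (a * x) = a * (d * x) := fun x => by rw [← mul_assoc, e2, mul_assoc]
  have e3 : d * b = b * d := comm hb hd hbd
  have e3' : ∀ x, d * (b * x) = b * (d * x) := fun x => by rw [← mul_assoc, e3, mul_assoc]
  have f1 : b * (a * b) = a * (b * a) := braid ha hb hab
  have f1' : ∀ x, b * (a * (b * x)) = a * (b * (a * x)) := fun x => by
    rw [← mul_assoc a b x, ← mul_assoc b _ x, f1, mul_assoc, mul_assoc]
  have f2 : c * (b * c) = b * (c * b) := braid hb hc hbc
  have f2' : ∀ x, c * (b * (c * x)) = b * (c * (b * x)) := fun x => by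
    rw [← mul_assoc b c x, ← mul_assoc c _ x, f2, mul_assoc, mul_assoc]
  have f3 : d * (c * d) = c * (d * c) := braid hc hd hcd
  have f3' : ∀ x, d * (c * (d * x)) = c * (d * (c * x)) := fun x => by
    rw [← mul_assoc c d x, ← mul_assoc d _ x, f3, mul_assoc, mul_assoc]
  -- the derived rules
  have g1' : ∀ x, c * (b * (a * (c * x))) = b * (c * (b * (a * x))) := fun x => by
    rw [← e1' x, f2']
  have g1 : c * (b * (a * c)) = b * (c * (b * a)) := by simpa using g1' 1
  have g2' : ∀ x, d * (c * (b * (d * x))) = c * (d * (c * (b * x))) := fun x => by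
    rw [← e3' x, f3']
  have g2 : d * (c * (b * d)) = c * (d * (c * b)) := by simpa using g2' 1
  have g3' : ∀ x, d * (c * (b * (a * (d * x)))) = c * (d * (c * (b * (a * x)))) := fun x => by
    rw [← e2' x, ← e3', f3']
  have g3 : d * (c * (b * (a * d))) = c * (d * (c * (b * a))) := by simpa using g3' 1
  simp only [pow_succ, pow_zero, one_mul, mul_assoc, ha, hb, hc, hd, a2, b2, c2, d2, e1, e1', e2, e2', e3, e3', f1, f1',
    f2, f2', f3, f3', g1, g1', g2, g2', g3, g3', mul_one]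

theorem realP_five {a b c d : G} (ha : a * a = 1) (hb : b * b = 1) (hc : c * c = 1) (hd : d * d = 1)
    (hab : (a * b) ^ 3 = 1) (hbc : (b * c) ^ 3 = 1) (hcd : (c * d) ^ 3 = 1)
    (hac : (a * c) ^ 2 = 1) (had : (a * d) ^ 2 = 1) (hbd : (b * d) ^ 2 = 1) (hne : a ≠ b) : RealP G 5 := by
  refine ⟨(a * c) * (b * d), ?_, IsReal.of_mul hac hbd⟩
  have : Fact (Nat.Prime 5) := ⟨by norm_num⟩
  apply orderOf_eq_prime (pow_five ha hb hc hd hab hbc hcd hac had hbd)
  intro h
  have e1 : c * a = a * c := comm ha hc hac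
  have e2 : d * a = a * d := comm ha hd had
  have h1 : a * c = d * b := by
    have h2 : a * c = (b * d)⁻¹ := eq_inv_of_mul_eq_one_left h
    have h3 : b⁻¹ = b := (eq_inv_of_mul_eq_one_left hb).symm
    have h4 : d⁻¹ = d := (eq_inv_of_mul_eq_one_left hd).symm
    rw [mul_inv_rev, h3, h4] at h2
    exact h2
  have h2 : b = d * (a * c) := by rw [h1, ← mul_assoc, hd, one_mul]
  apply hne
  apply eq_of_comm ha hb hab
  rw [h2]
  calc d * (a * c) * a = d * a * (c * a) := by group
    _ = (a * d) * (a * c) := by rw [e1, e2]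
    _ = a * (d * (a * c)) := by group

/-! ### Coxeter presentations -/

section cox

variable {α : Type*} [DecidableEq α] {edges : List (α × ℕ × α)} {extra : List (FreeGroup α)}

open SporadicRecognition.CoxPres

/-- label -/
theorem lab {n : ℕ} (x y : α) (hx : x ∈ Spor.coxNodes edges) (hy : y ∈ Spor.coxNodes edges)
    (hl : Spor.coxLabel edges x y = n) :
    ((PresentedGroup.of x * PresentedGroup.of y : Spor.CoxPresented α edges extra)) ^ n = 1 := by
  rw [← hl]
  exact cox_rel x y hx hy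

theorem lab1 (x : α) (hx : x ∈ Spor.coxNodes edges) (hl : Spor.coxLabel edges x x = 1) :
    (PresentedGroup.of x * PresentedGroup.of x : Spor.CoxPresented α edges extra) = 1 := by
  have := lab (extra := extra) x x hx hx hl
  rwa [pow_one] at this

end cox

end Cfsg.Agent.H729.OddAFour
end

-- part: H453/OddM/RealOrth
section
prune_inst 0x42040003900020000008582010000005800040000000c00048108000301a02005002000038001014a00000000000040000000000000000000000000000100000000100401000008420098000100000000000000000000000000000000000000000000000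
set_option linter.all false
open scoped Cfsg.Agent.FastGrp

/-!
# Real elements of odd order in the orthogonal groups, `q` odd (TEAM ODDM, S4785, piece C1b)

* `TT F d N c` : a torus generator `g` of order `N`, determinant one, spinor sign `-1`, inverted by an isometry,
  on a space of dimension `2 d` and class `c`; `tt_split` (`N = q ^ d - 1`), `nonsplit_full` (`N = q ^ d + 1`)
* `realP_omega_block` : `2 d + 2 ≤ dim`,  `v ∣ q ^ d ∓ 1` odd : `RealP (POmega F Q) v`
* `realP_omega_odd`   : `dim = 2 d + 1`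
* `realP_omega_minus` : `dim = 2 d`, `d` even, minus type, `v ∣ q ^ d + 1`
-/

set_option autoImplicit false
set_option linter.unusedSectionVars false
set_option linter.style.haveILetI false

namespace Cfsg.Agent.H453.OddM

open QuadraticMap Module
open Cfsg.Agent.LieClassical.OrthCore Cfsg.Agent.LieClassical.OrthFinite Cfsg.Agent.LieClassical.OrthForms
open Cfsg.Agent.H160.QSpin Cfsg.Agent.H160.QDisc Cfsg.Agent.H160.QModel Cfsg.Agent.H160.QFinal
open Cfsg.Agent.H160.QReal Cfsg.Agent.H160.QSemi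

/-! ### general facts on `RealP` -/

/-- a real element of odd order keeps its order modulo the centre -/
theorem realP_center {G : Type*} [Group G] {v : ℕ} (hv : Odd v) (h : RealP G v) :
    RealP (G ⧸ Subgroup.center G) v := by
  obtain ⟨x, hx, hr⟩ := h
  refine ⟨QuotientGroup.mk' _ x, ?_, hr.map (QuotientGroup.mk' _)⟩
  rw [← hx, orderOf_eq_orderOf_iff]
  intro j
  constructor
  · intro hj
    have h1 : x ^ j ∈ Subgroup.center G := by
      rw [← map_pow] at hj
      exact (QuotientGroup.eq_one_iff _).1 hj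
    obtain ⟨g, hg⟩ := hr.pow j
    rw [Subgroup.mem_center_iff] at h1
    rw [h1 g, mul_inv_cancel_right] at hg
    have h2 : x ^ (j * 2) = 1 := by
      rw [pow_mul, pow_two]
      nth_rewrite 2 [hg]
      exact mul_inv_cancel _
    have h3 : v ∣ j * 2 := by rw [← hx]; exact orderOf_dvd_of_pow_eq_one h2
    have h4 : v ∣ j := (Nat.coprime_two_right.2 hv).dvd_of_dvd_mul_right h3
    rw [← hx] at h4
    exact orderOf_dvd_iff_pow_eq_one.1 h4
  · intro hj
    rw [← map_pow, hj, map_one]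

theorem RealP.dvd {G : Type*} [Group G] {v w : ℕ} (h : RealP G v) (hv : v ≠ 0) (hw : w ∣ v) : RealP G w := by
  obtain ⟨x, hx, hr⟩ := h
  refine ⟨x ^ (v / w), ?_, hr.pow _⟩
  rw [← hx] at hw hv ⊢
  exact orderOf_pow_orderOf_div hv hw

theorem sq_eq_one_units {F : Type*} [Field F] {u : Fˣ} (h : u ^ 2 = 1) : u = 1 ∨ u = -1 := by
  have h1 : (u : F) * u = 1 := by rw [← Units.val_mul, ← pow_two, h]; rfl
  rcases mul_self_eq_one_iff.1 h1 with h | h
  · left; exact Units.ext h
  · right; exact Units.ext (by rw [h]; rfl)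

theorem hom_eq_one {G A : Type*} [Group G] [CommGroup A] (φ : G →* A) {x y : G} {v : ℕ} (hv : Odd v)
    (hx : x ^ v = 1) (h : y * x * y⁻¹ = x⁻¹) : φ x = 1 := by
  have h1 := congrArg φ h
  rw [map_mul, map_mul, map_inv, map_inv, mul_inv_cancel_comm] at h1
  refine eq_one_of_odd hv ?_ (by rw [← map_pow, hx, map_one])
  rw [pow_two]
  nth_rewrite 1 [h1]
  exact inv_mul_cancel _

section Abs

variable {F : Type*} [Field F] [Fintype F] {V : Type*} [AddCommGroup V] [Module F V] [FiniteDimensional F V] [Finite V]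
  {Q : QuadraticForm F V}

/-- a real isometry of order `v` in the kernel of determinant and spinor sign -/
def RQ (Q : QuadraticForm F V) (v : ℕ) : Prop :=
  ∃ x y : V ≃ₗ[F] V, El Q 1 x ∧ El Q 1 y ∧ orderOf x = v ∧ y * x * y⁻¹ = x⁻¹

theorem rq_adjust (hQ : Nondeg Q) {x y : V ≃ₗ[F] V} {v : ℕ} (hv : Odd v) (hxO : x ∈ O Q) (hyO : y ∈ O Q)
    (hx : orderOf x = v) (hyx : y * x * y⁻¹ = x⁻¹)
    (hd : LinearEquiv.det y = 1 ∨ ∃ z ∈ O Q, LinearEquiv.det z = -1 ∧ z * x = x * z)
    (hs : ∃ z : V ≃ₗ[F] V, El Q (-1) z ∧ z * x = x * z) : RQ Q v := by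
  have hxv : x ^ v = 1 := by rw [← hx, pow_orderOf_eq_one]
  have key : ∀ z : V ≃ₗ[F] V, ∀ y : V ≃ₗ[F] V, y * x * y⁻¹ = x⁻¹ → z * x = x * z →
      (y * z) * x * (y * z)⁻¹ = x⁻¹ := by
    intro z y hy hz
    calc (y * z) * x * (y * z)⁻¹ = y * (z * x) * (y * z)⁻¹ := by group
      _ = y * (x * z) * (y * z)⁻¹ := by rw [hz]
      _ = y * x * y⁻¹ := by group
      _ = x⁻¹ := hy
  obtain ⟨y₁, hy₁O, hy₁d, hy₁x⟩ : ∃ y₁ ∈ O Q, LinearEquiv.det y₁ = 1 ∧ y₁ * x * y₁⁻¹ = x⁻¹ := by
    rcases hd with h | ⟨z, hzO, hzd, hzx⟩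
    · exact ⟨y, hyO, h, hyx⟩
    · rcases sq_eq_one_units (det_sq hQ hyO) with h | h
      · exact ⟨y, hyO, h, hyx⟩
      · exact ⟨y * z, (O Q).mul_mem hyO hzO, by rw [map_mul, h, hzd, neg_mul_neg, one_mul], key z y hyx hzx⟩
  obtain ⟨z, ⟨hzO, hzd, hzs⟩, hzx⟩ := hs
  have hxd : LinearEquiv.det x = 1 := hom_eq_one LinearEquiv.det hv hxv hyx
  have hxs : spin Q ⟨x, hxO⟩ = 1 := by
    refine hom_eq_one (spin Q) (y := ⟨y, hyO⟩) hv (Subtype.ext ?_) (Subtype.ext ?_)
    · show x ^ v = 1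
      exact hxv
    · exact hyx
  rcases Int.units_eq_one_or (spin Q ⟨y₁, hy₁O⟩) with h | h
  · exact ⟨x, y₁, ⟨hxO, hxd, hxs⟩, ⟨hy₁O, hy₁d, h⟩, hx, hy₁x⟩
  · refine ⟨x, y₁ * z, ⟨hxO, hxd, hxs⟩, ?_, hx, key z y₁ hy₁x hzx⟩
    have := El.mul (Q := Q) ⟨hy₁O, hy₁d, h⟩ ⟨hzO, hzd, hzs⟩
    simpa using this

theorem RQ.cj {W : Type*} [AddCommGroup W] [Module F W] [FiniteDimensional F W] [Finite W] {Q' : QuadraticForm F W}
    {v : ℕ} (h : RQ Q v) {e : V ≃ₗ[F] W} (he : IsIso Q Q' e) : RQ Q' v := by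
  obtain ⟨x, y, hx, hy, hv, hyx⟩ := h
  refine ⟨Cfsg.Agent.H160.QSpin.cj e x, Cfsg.Agent.H160.QSpin.cj e y, hx.cj he, hy.cj he, by rw [orderOf_cj, hv], ?_⟩
  have h1 := congrArg (cjEquiv e) hyx
  rw [map_mul, map_mul, map_inv, map_inv] at h1
  exact h1

theorem realP_pomega {ι : Type} [Fintype ι] [DecidableEq ι] (h2 : (2 : F) ≠ 0) {Q : QuadraticForm F (ι → F)}
    (hQ : Nondeg Q) (hd : 5 ≤ Fintype.card ι) {v : ℕ} (hv : Odd v) (h : RQ Q v) : RealP (Cfsg.POmega F ⇑Q) v := by
  obtain ⟨x, y, hx, hy, hxv, hyx⟩ := h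
  obtain ⟨X, rfl⟩ := exists_lin h2 hQ hd hx
  obtain ⟨Y, rfl⟩ := exists_lin h2 hQ hd hy
  refine realP_center hv ⟨X, by rw [← orderOf_lin, hxv], Y, lin_injective Q ?_⟩
  rw [map_mul, map_mul, map_inv, map_inv, hyx]

/-! ### the spinor sign of a torus generator -/

theorem odd_card_of_two (h2 : (2 : F) ≠ 0) : Odd (Fintype.card F) := by
  obtain ⟨e, he⟩ := Cfsg.Agent.H160.QUpper.card_odd_eq (F := F) h2
  exact ⟨e, he⟩

theorem spin_of_free (h2 : (2 : F) ≠ 0) (hQ : Nondeg Q) {d : ℕ} (hd : finrank F V = 2 * d) (hd0 : d ≠ 0)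
    {g : V ≃ₗ[F] V} (hg : g ∈ O Q) {N : ℕ} (hN : orderOf g = N)
    (hfree : ∀ i, 0 < i → i < N → ∀ x, (g ^ i) x = x → x = 0)
    (h : (Cfsg.Agent.H955.IsPlus Q ∧ N + 1 = Fintype.card F ^ d) ∨ N = Fintype.card F ^ d + 1) :
    spin Q ⟨g, hg⟩ = -1 ∧ (N = Fintype.card F ^ d + 1 → ¬ Cfsg.Agent.H955.IsPlus Q) := by
  classical
  let _ := Fintype.ofFinite {x : V // Q x = 1}
  set q := Fintype.card F with hq
  have hqo : Odd q := odd_card_of_two h2
  have hq3 : 3 ≤ q := by
    have h1 := Fintype.one_lt_card (α := F)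
    obtain ⟨k, hk⟩ := hqo
    omega
  have hqd : q ≤ q ^ d := Nat.le_self_pow hd0 q
  have hqdo : Odd (q ^ d) := hqo.pow
  have hNpos : 2 ≤ N ∧ Even N := by
    obtain ⟨k, hk⟩ := hqdo
    rcases h with ⟨-, h⟩ | h
    · exact ⟨by omega, ⟨k, by omega⟩⟩
    · exact ⟨by omega, ⟨k + 1, by omega⟩⟩
  set σ := qperm Q ⟨g, hg⟩ with hσ
  have hσpow : ∀ (i : ℕ) (x : {x : V // Q x = 1}), (((σ ^ i) x : {x : V // Q x = 1}) : V) = (g ^ i) x := by
    intro i x
    rw [hσ, ← map_pow, qperm_apply]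
    rfl
  have hgN : g ^ N = 1 := by rw [← hN, pow_orderOf_eq_one]
  have hσN : σ ^ N = 1 := by
    ext x
    rw [hσpow, hgN]
    rfl
  have hσfree : ∀ i, 0 < i → i < N → ∀ x, (σ ^ i) x ≠ x := by
    intro i h0 h1 x hx
    have h3 := hσpow i x
    rw [hx] at h3
    have h4 := hfree i h0 h1 x h3.symm
    have h5 := x.2
    rw [h4, map_zero] at h5
    exact zero_ne_one h5
  -- the cardinality
  have hcard : (Cfsg.Agent.H955.IsPlus Q → q * Nat.card {x : V // Q x = 1} + q ^ d = q ^ (2 * d)) ∧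
      (¬ Cfsg.Agent.H955.IsPlus Q → q * Nat.card {x : V // Q x = 1} = q ^ (2 * d) + q ^ d) := by
    constructor
    · intro hP
      have := Cfsg.Agent.H955.card_eq_one_of_isPlus hQ hd hP
      rwa [Nat.card_eq_fintype_card (α := F)] at this
    · intro hP
      have := Cfsg.Agent.H955.card_eq_one_of_not_isPlus hQ hd hP
      rwa [Nat.card_eq_fintype_card (α := F)] at this
  set n := Nat.card {x : V // Q x = 1} with hn
  have h2d : q ^ (2 * d) = q ^ d * q ^ d := by rw [two_mul, pow_add]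
  have hnpos : 0 < n := by
    by_contra h0
    have h0' : n = 0 := by omega
    by_cases hP : Cfsg.Agent.H955.IsPlus Q
    · have := hcard.1 hP
      rw [h0', mul_zero, zero_add, h2d] at this
      have h3 : 1 < q ^ d := by omega
      nlinarith only [hq3, hqd, this]
    · have := hcard.2 hP
      rw [h0', mul_zero] at this
      have h3 : 0 < q ^ d := by omega
      omega
  have hdiv : N ∣ n := by
    have horder : orderOf σ = N := by
      apply Nat.dvd_antisymm (orderOf_dvd_of_pow_eq_one hσN)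
      by_contra hne
      have h3 : orderOf σ ∣ N := orderOf_dvd_of_pow_eq_one hσN
      have h4 : orderOf σ ≤ N := Nat.le_of_dvd (by omega) h3
      have h5 : orderOf σ ≠ N := fun h => hne (by rw [h])
      obtain ⟨⟨x⟩, -⟩ := Nat.card_pos_iff.1 hnpos
      exact hσfree (orderOf σ) (orderOf_pos σ) (by omega) x (by rw [pow_orderOf_eq_one]; rfl)
    have h3 := Cfsg.Agent.H23.FreeAct.card_dvd_of_free (D := Subgroup.zpowers σ) (α := {x : V // Q x = 1}) (by
      rintro ⟨τ, hτ⟩ x hx
      obtain ⟨k, rfl⟩ := Subgroup.mem_zpowers_iff.1 hτ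
      apply Subtype.ext
      have hx' : (σ ^ k) x = x := hx
      have hpos : (0 : ℤ) < (orderOf σ : ℤ) := by exact_mod_cast orderOf_pos σ
      have h5 := zpow_mod_orderOf σ k
      obtain ⟨m, hm⟩ := Int.eq_ofNat_of_zero_le (Int.emod_nonneg k hpos.ne')
      have hlt := Int.emod_lt_of_pos k hpos
      rw [hm, zpow_natCast] at h5
      rw [hm] at hlt
      have hlt' : m < N := by rw [← horder]; exact_mod_cast hlt
      rcases Nat.eq_zero_or_pos m with h0 | h0
      · rw [h0, pow_zero] at h5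
        exact h5.symm
      · rw [← h5] at hx'
        exact absurd hx' (hσfree m h0 hlt' x))
    rwa [Nat.card_zpowers, horder] at h3
  obtain ⟨d', rfl⟩ : ∃ d', d = d' + 1 := ⟨d - 1, by omega⟩
  have hqs : q ^ (d' + 1) = q * q ^ d' := by rw [pow_succ, mul_comm]
  have hq0 : 0 < q := by omega
  have hplus' : Cfsg.Agent.H955.IsPlus Q → n + q ^ d' = q ^ d' * q ^ (d' + 1) := by
    intro hP
    have h3 := hcard.1 hP
    rw [h2d] at h3
    apply Nat.eq_of_mul_eq_mul_left hq0
    calc q * (n + q ^ d') = q * n + q * q ^ d' := by ring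
      _ = q * n + q ^ (d' + 1) := by rw [← hqs]
      _ = q ^ (d' + 1) * q ^ (d' + 1) := h3
      _ = q * q ^ d' * q ^ (d' + 1) := by rw [← hqs]
      _ = q * (q ^ d' * q ^ (d' + 1)) := by ring
  have hminus' : ¬ Cfsg.Agent.H955.IsPlus Q → n = q ^ d' * q ^ (d' + 1) + q ^ d' := by
    intro hP
    have h3 := hcard.2 hP
    rw [h2d] at h3
    apply Nat.eq_of_mul_eq_mul_left hq0
    calc q * n = q ^ (d' + 1) * q ^ (d' + 1) + q ^ (d' + 1) := h3
      _ = q * q ^ d' * q ^ (d' + 1) + q * q ^ d' := by rw [← hqs]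
      _ = q * (q ^ d' * q ^ (d' + 1) + q ^ d') := by ring
  -- minus type if `N = q ^ d + 1`
  have hminus : N = q ^ (d' + 1) + 1 → ¬ Cfsg.Agent.H955.IsPlus Q := by
    intro hN' hP
    have h3 := hplus' hP
    have h4 : n + 2 * q ^ d' = q ^ d' * N := by
      rw [hN', mul_add, mul_one, ← h3]
      ring
    have h5 : N ∣ 2 * q ^ d' := by
      have h6 : N ∣ n + 2 * q ^ d' := by rw [h4]; exact Dvd.intro_left _ rfl
      exact (Nat.dvd_add_right hdiv).1 h6
    have hcop : Nat.Coprime N (q ^ d') := by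
      rw [hN', hqs]
      simp
    have h6 := Nat.le_of_dvd (by omega) (hcop.dvd_of_dvd_mul_right h5)
    omega
  have hnN : n = q ^ d' * N := by
    rcases h with ⟨hP, h⟩ | h
    · have h3 := hplus' hP
      have h4 : q ^ (d' + 1) = N + 1 := by omega
      rw [h4, mul_add, mul_one] at h3
      omega
    · have h3 := hminus' (hminus h)
      rw [h3, h]
      ring
  refine ⟨?_, hminus⟩
  rcases Int.units_eq_one_or (spin Q ⟨g, hg⟩) with hs | hs
  · exfalso
    rw [spin_apply] at hs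
    rcases sign_semireg σ (by omega) hσN hσfree hs with h3 | h3
    · exact Nat.not_even_iff_odd.2 h3 hNpos.2
    · rw [← Nat.card_eq_fintype_card, ← hn, hnN] at h3
      have h4 : 2 ∣ q ^ d' := by
        rw [mul_comm] at h3
        exact Nat.dvd_of_mul_dvd_mul_left (by omega : 0 < N) (by rwa [mul_comm (q ^ d') N] at h3)
      exact Nat.not_even_iff_odd.2 (hqo.pow (n := d')) (even_iff_two_dvd.2 h4)
  · exact hs

end Abs

section Tor

variable {F : Type*} [Field F] [Fintype F] [DecidableEq F]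

/-- a torus generator: order `N`, determinant one, spinor sign `-1`, inverted by an isometry -/
def TT (F : Type*) [Field F] [Fintype F] [DecidableEq F] (d N : ℕ) : Prop :=
  ∃ (Q : QuadraticForm F (Fin (2 * d) → F)) (g y : (Fin (2 * d) → F) ≃ₗ[F] (Fin (2 * d) → F)),
    Nondeg Q ∧ El Q (-1) g ∧ orderOf g = N ∧ y ∈ O Q ∧ y * g * y⁻¹ = g⁻¹

/-- the same, minus type, and the inverting isometry has determinant `(-1) ^ d` -/
def TM (F : Type*) [Field F] [Fintype F] [DecidableEq F] (d N : ℕ) : Prop :=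
  ∃ (Q : QuadraticForm F (Fin (2 * d) → F)) (g y : (Fin (2 * d) → F) ≃ₗ[F] (Fin (2 * d) → F)),
    Nondeg Q ∧ ¬ Cfsg.Agent.H955.IsPlus Q ∧ El Q (-1) g ∧ orderOf g = N ∧ y ∈ O Q ∧ LinearEquiv.det y = (-1) ^ d ∧
      y * g * y⁻¹ = g⁻¹

theorem TM.tt {d N : ℕ} (h : TM F d N) : TT F d N := by
  obtain ⟨Q, g, y, h1, -, h3, h4, h5, -, h7⟩ := h
  exact ⟨Q, g, y, h1, h3, h4, h5, h7⟩

theorem TT.of {V : Type*} [AddCommGroup V] [Module F V] [FiniteDimensional F V] [Finite V] {Q : QuadraticForm F V}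
    (hQ : Nondeg Q) {g y : V ≃ₗ[F] V} (hg : El Q (-1) g) (hy : y ∈ O Q) (hyg : y * g * y⁻¹ = g⁻¹) {d : ℕ}
    (hn : finrank F V = 2 * d) : TT F d (orderOf g) := by
  obtain ⟨Q', e, he⟩ := exists_fin Q hn
  refine ⟨Q', _, Cfsg.Agent.H160.QSpin.cj e y, he.nondeg hQ, hg.cj he, orderOf_cj e g, cj_mem_O he hy, ?_⟩
  have h1 := congrArg (cjEquiv e) hyg
  rw [map_mul, map_mul, map_inv, map_inv] at h1
  exact h1

theorem TM.of {V : Type*} [AddCommGroup V] [Module F V] [FiniteDimensional F V] [Finite V] {Q : QuadraticForm F V}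
    (hQ : Nondeg Q) (hP : ¬ Cfsg.Agent.H955.IsPlus Q) {g y : V ≃ₗ[F] V} (hg : El Q (-1) g) (hy : y ∈ O Q)
    (hyg : y * g * y⁻¹ = g⁻¹) {d : ℕ} (hn : finrank F V = 2 * d) (hd : LinearEquiv.det y = (-1) ^ d) :
    TM F d (orderOf g) := by
  obtain ⟨Q', e, he⟩ := exists_fin Q hn
  refine ⟨Q', _, Cfsg.Agent.H160.QSpin.cj e y, he.nondeg hQ, fun hP' => hP ?_, hg.cj he, orderOf_cj e g,
    cj_mem_O he hy, by rw [det_cj, hd], ?_⟩
  · exact hP'.of_equiv e.symm he.symm
  · have h1 := congrArg (cjEquiv e) hyg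
    rw [map_mul, map_mul, map_inv, map_inv] at h1
    exact h1

/-- **The split torus.** -/
theorem tt_split (h2 : (2 : F) ≠ 0) {d : ℕ} (hd : d ≠ 0) : TT F d (Fintype.card F ^ d - 1) := by
  obtain ⟨p, hpF⟩ := CharP.exists F
  have hp : Fact p.Prime := ⟨CharP.char_is_prime F p⟩
  have : NeZero d := ⟨hd⟩
  let L := FiniteField.Extension F p d
  have hcard : Nat.card L = Fintype.card F ^ d := by
    rw [FiniteField.natCard_extension, Nat.card_eq_fintype_card]
  have hfr : finrank F L = d := FiniteField.finrank_extension F p d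
  obtain ⟨ζ, hζ⟩ := exists_gen hcard
  let B : LinearMap.BilinForm F (L × L) := LinearMap.mk₂ F (fun x y => Algebra.trace F L (x.1 * y.2))
    (fun x x' y => by simp only [Prod.fst_add, add_mul, map_add])
    (fun c x y => by simp only [Prod.smul_fst, smul_mul_assoc, map_smul])
    (fun x y y' => by simp only [Prod.snd_add, mul_add, map_add])
    (fun c x y => by simp only [Prod.smul_snd, mul_smul_comm, map_smul])
  have hB : ∀ x y, B x y = Algebra.trace F L (x.1 * y.2) := fun x y => rfl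
  have htr : ∀ x : L, (∀ y : L, Algebra.trace F L (x * y) = 0) → x = 0 := by
    intro x hx
    exact (traceForm_nondegenerate F L).1 x hx
  have hQ : Nondeg (qf B) := by
    intro x hx
    apply Prod.ext
    · apply htr
      intro y
      have := hx (0, y)
      rw [polar_qf, hB, hB] at this
      simpa only [_root_.MulZeroClass.zero_mul, _root_.map_zero, _root_.add_zero] using this
    · apply htr
      intro y
      have := hx (y, 0)
      rw [polar_qf, hB, hB] at this
      rw [mul_comm]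
      simpa only [_root_.MulZeroClass.mul_zero, _root_.map_zero, _root_.zero_add] using this
  have hg : pr (ml F L ζ) (ml F L ζ⁻¹) ∈ O (qf B) := by
    apply mem_O_qf
    intro x y
    rw [hB, hB, pr_apply, pr_apply]
    show Algebra.trace F L ((ζ * x.1) * (((ζ⁻¹ : Lˣ) : L) * y.2)) = _
    congr 1
    have : (ζ : L) * ((ζ⁻¹ : Lˣ) : L) = 1 := Units.mul_inv ζ
    linear_combination (x.1 * y.2) * this
  have hdet : LinearEquiv.det (pr (ml F L ζ) (ml F L ζ⁻¹)) = 1 := by
    rw [det_pr, map_inv, map_inv, mul_inv_cancel]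
  have hord : orderOf (pr (ml F L ζ) (ml F L ζ⁻¹)) = Fintype.card F ^ d - 1 := by
    rw [orderOf_pr, orderOf_ml, orderOf_ml, orderOf_inv, Nat.lcm_self, hζ]
  have hfr2 : finrank F (L × L) = 2 * d := by rw [finrank_prod, hfr, two_mul]
  have hP : Cfsg.Agent.H955.IsPlus (qf B) := by
    refine ⟨LinearMap.range (LinearMap.inl F L L), ?_, ?_⟩
    · rintro _ ⟨x, rfl⟩
      rw [qf_apply, hB]
      simp
    · rw [LinearMap.finrank_range_of_inj LinearMap.inl_injective, hfr, hfr2]
  have hqpos : 0 < Fintype.card F := Fintype.card_pos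
  have hfree : ∀ i, 0 < i → i < Fintype.card F ^ d - 1 → ∀ x : L × L,
      ((pr (ml F L ζ) (ml F L ζ⁻¹)) ^ i) x = x → x = 0 := by
    intro i h0 h1 x hx
    rw [pr_pow, pr_apply, ← map_pow, ← map_pow] at hx
    have h3 := congrArg Prod.fst hx
    have h4 := congrArg Prod.snd hx
    simp only [ml_apply] at h3 h4
    have h5 : ζ ^ i ≠ 1 := by
      intro h
      have := Nat.le_of_dvd h0 (orderOf_dvd_of_pow_eq_one h)
      omega
    have h6 : (ζ⁻¹) ^ i ≠ 1 := by
      rw [inv_pow]
      exact inv_ne_one.2 h5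
    have key : ∀ (u : Lˣ) (w : L), u ≠ 1 → (u : L) * w = w → w = 0 := by
      intro u w hu hw
      have h7 : ((u : L) - 1) * w = 0 := by rw [sub_mul, hw, one_mul, sub_self]
      rcases mul_eq_zero.1 h7 with h | h
      · exact absurd (Units.ext (sub_eq_zero.1 h)) hu
      · exact h
    exact Prod.ext (key _ _ h5 h3) (key _ _ h6 h4)
  have hspin := (spin_of_free h2 hQ hfr2 hd hg hord hfree (Or.inl ⟨hP, by
    have := Nat.one_le_pow d _ hqpos
    omega⟩)).1
  have hy : (LinearEquiv.prodComm F L L : (L × L) ≃ₗ[F] (L × L)) ∈ O (qf B) := by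
    intro x
    rw [qf_apply, qf_apply, hB, hB]
    congr 1
    exact mul_comm _ _
  have := TT.of hQ (g := pr (ml F L ζ) (ml F L ζ⁻¹)) (y := LinearEquiv.prodComm F L L) ⟨hg, hdet, hspin⟩ hy ?_ hfr2
  · rwa [hord] at this
  · rw [mul_inv_eq_iff_eq_mul, eq_inv_mul_iff_mul_eq]
    ext x
    · simp only [pr_apply, ml_apply, _root_.map_inv, _root_.LinearEquiv.mul_apply, _root_.LinearEquiv.coe_inv, _root_.LinearEquiv.prodComm_apply, _root_.Prod.swap_prod_mk, _root_.LinearEquiv.apply_symm_apply, _root_.Prod.fst_swap]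
    · simp only [pr_apply, ml_apply, LinearEquiv.mul_apply, LinearEquiv.prodComm_apply, map_inv,
        Prod.swap]
      exact (ml F L ζ).symm_apply_apply x.1

/-- the determinant of an involution which anticommutes with an injective map -/
theorem det_of_anti (h2 : (2 : F) ≠ 0) {V : Type*} [AddCommGroup V] [Module F V] [FiniteDimensional F V]
    {s k : Module.End F V} (hs : ∀ v, s (s v) = v) (hk : Function.Injective k) (hsk : ∀ v, s (k v) = -k (s v)) {d : ℕ}
    (hd : finrank F V = 2 * d) : LinearMap.det s = (-1) ^ d := by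
  let U : Submodule F V := LinearMap.ker (s - 1)
  let W : Submodule F V := LinearMap.ker (s + 1)
  have hU : ∀ v, v ∈ U ↔ s v = v := fun v => by
    change (s - 1) v = 0 ↔ _
    rw [LinearMap.sub_apply, Module.End.one_apply, sub_eq_zero]
  have hW : ∀ v, v ∈ W ↔ s v = -v := fun v => by
    change (s + 1) v = 0 ↔ _
    rw [LinearMap.add_apply, Module.End.one_apply, add_eq_zero_iff_eq_neg]
  have hc : IsCompl U W := by
    constructor
    · rw [Submodule.disjoint_def]
      intro v h1 h3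
      rw [hU] at h1
      rw [hW, h1] at h3
      have h4 : (2 : F) • v = 0 := by
        rw [two_smul]
        nth_rewrite 2 [h3]
        exact add_neg_cancel v
      exact (smul_eq_zero.1 h4).resolve_left h2
    · rw [codisjoint_iff, eq_top_iff]
      intro v _
      rw [Submodule.mem_sup]
      refine ⟨(2 : F)⁻¹ • (v + s v), ?_, (2 : F)⁻¹ • (v - s v), ?_, ?_⟩
      · rw [hU, map_smul, map_add, hs, add_comm]
      · rw [hW, map_smul, map_sub, hs, ← smul_neg, neg_sub]
      · rw [← smul_add]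
        have : v + s v + (v - s v) = (2 : F) • v := by rw [two_smul]; abel
        rw [this, smul_smul, inv_mul_cancel₀ h2, one_smul]
  have h1 : finrank F U ≤ finrank F W := by
    refine LinearMap.finrank_le_finrank_of_injective (f := (k.comp U.subtype).codRestrict W fun u => ?_) ?_
    · rw [hW]
      change s (k u) = -k u
      rw [hsk, (hU _).1 u.2]
    · intro a b hab
      exact Subtype.ext (hk (congrArg Subtype.val hab))
  have h3 : finrank F W ≤ finrank F U := by
    refine LinearMap.finrank_le_finrank_of_injective (f := (k.comp W.subtype).codRestrict U fun u => ?_) ?_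
    · rw [hU]
      change s (k u) = k u
      rw [hsk, (hW _).1 u.2, map_neg, neg_neg]
    · intro a b hab
      exact Subtype.ext (hk (congrArg Subtype.val hab))
  have h4 := Submodule.finrank_add_eq_of_isCompl hc
  have h5 : finrank F W = d := by omega
  let e := Submodule.prodEquivOfIsCompl _ _ hc
  have he : s = (e : (U × W) →ₗ[F] V) ∘ₗ
      ((LinearMap.id : U →ₗ[F] U).prodMap ((-1 : F) • (LinearMap.id : W →ₗ[F] W))) ∘ₗ
      (e.symm : V →ₗ[F] (U × W)) := by
    apply LinearMap.ext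
    intro v
    obtain ⟨p, rfl⟩ := e.surjective v
    have h1 : e p = (p.1 : V) + (p.2 : V) := rfl
    simp only [LinearMap.comp_apply, LinearEquiv.coe_coe, LinearEquiv.symm_apply_apply, LinearMap.prodMap_apply]
    rw [h1, map_add, (hU _).1 p.1.2, (hW _).1 p.2.2]
    have h3 : ∀ x : U × W, e x = (x.1 : V) + (x.2 : V) := fun _ => rfl
    rw [h3]
    simp only [_root_.LinearMap.id_coe, _root_.id_eq, _root_.LinearMap.smul_apply, _root_.neg_smul, _root_.one_smul, _root_.NegMemClass.coe_neg]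
  conv_lhs => rw [he]
  rw [LinearMap.det_conj, LinearMap.det_prodMap, LinearMap.det_id, one_mul,
    LinearMap.det_smul, LinearMap.det_id, mul_one, h5]

theorem nonsplit_aux (h2 : (2 : F) ≠ 0) {d q : ℕ} (hq : q = Fintype.card F) (hd : d ≠ 0) {L : Type} [Field L] [Algebra F L]
    [Finite L] [FiniteDimensional F L] [Algebra.IsSeparable F L]
    (hfr : finrank F L = 2 * d) (hcard : Nat.card L = q ^ (2 * d)) (σ : L ≃ₐ[F] L)
    (hσ : ∀ x : L, σ x = x ^ (q ^ d)) : TM F d (q ^ d + 1) := by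
  have hq1 : 1 < q := hq ▸ Fintype.one_lt_card
  obtain ⟨ζ, hζ⟩ := exists_gen hcard
  have hqd : 1 < q ^ d := Nat.one_lt_pow hd hq1
  have hfac : q ^ (2 * d) - 1 = (q ^ d - 1) * (q ^ d + 1) := by
    have := Nat.sq_sub_sq (q ^ d) 1
    rw [← pow_mul, one_pow, mul_comm d 2] at this
    rw [this, mul_comm]
  have hσσ : ∀ x : L, σ (σ x) = x := by
    intro x
    rw [hσ, hσ, ← pow_mul, ← pow_add, ← two_mul]
    have := Fintype.ofFinite L
    have h3 := FiniteField.pow_card x
    rw [← Nat.card_eq_fintype_card, hcard] at h3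
    exact h3
  let B : LinearMap.BilinForm F L := LinearMap.mk₂ F (fun x y => Algebra.trace F L (x * σ y))
    (fun x x' y => by simp only [add_mul, map_add])
    (fun c x y => by simp only [smul_mul_assoc, map_smul])
    (fun x y y' => by simp only [map_add, mul_add])
    (fun c x y => by simp only [map_smul, mul_smul_comm])
  have hB : ∀ x y, B x y = Algebra.trace F L (x * σ y) := fun x y => rfl
  have htr : ∀ x : L, (∀ y : L, Algebra.trace F L (x * y) = 0) → x = 0 := by
    intro x hx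
    exact (traceForm_nondegenerate F L).1 x hx
  have hsymm : ∀ x y, B x y = B y x := by
    intro x y
    rw [hB, hB, ← Algebra.trace_eq_of_algEquiv σ (x * σ y), map_mul, hσσ, mul_comm (σ x) y]
  have hQ : Nondeg (qf B) := by
    refine nondeg_qf h2 hsymm ?_
    intro x hx
    apply htr
    intro y
    have := hx (σ y)
    rw [hB, hσσ] at this
    exact this
  let z : Lˣ := ζ ^ (q ^ d - 1)
  have hzord : orderOf z = q ^ d + 1 := by
    have h3 : orderOf ζ ≠ 0 := by
      rw [hζ, hfac]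
      exact Nat.mul_ne_zero (by omega) (by omega)
    have h4 := orderOf_pow_of_dvd (x := ζ) (n := q ^ d - 1) (by omega) (by rw [hζ, hfac]; exact Dvd.intro _ rfl)
    rw [h4, hζ, hfac, Nat.mul_div_cancel_left _ (by omega)]
  have hzz : (z : L) * σ z = 1 := by
    rw [hσ, ← Units.val_pow_eq_pow_val, ← Units.val_mul, ← pow_succ', ← hzord, pow_orderOf_eq_one]
    rfl
  have hg : ml F L z ∈ O (qf B) := by
    apply mem_O_qf
    intro x y
    rw [hB, hB, ml_apply, ml_apply, map_mul σ]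
    congr 1
    linear_combination (x * σ y) * hzz
  have hnorm : Algebra.norm F (z : L) = 1 := by
    have h3 : Algebra.norm F (z : L) * Algebra.norm F (ζ : L) = 1 * Algebra.norm F (ζ : L) := by
      rw [one_mul, ← map_mul (Algebra.norm F)]
      have h4 : (z : L) * ζ = σ ζ := by
        rw [hσ, ← Units.val_mul, ← pow_succ, Nat.sub_add_cancel hqd.le, Units.val_pow_eq_pow_val]
      rw [h4]
      exact Algebra.norm_eq_of_algEquiv σ _
    exact mul_right_cancel₀ (by
      rw [Ne, Algebra.norm_eq_zero_iff]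
      exact ζ.ne_zero) h3
  have hdet : LinearEquiv.det (ml F L z) = 1 := by
    apply Units.ext
    rw [det_ml, hnorm, Units.val_one]
  have hord : orderOf (ml F L z) = q ^ d + 1 := by rw [orderOf_ml, hzord]
  have hfree : ∀ i, 0 < i → i < q ^ d + 1 → ∀ x : L, ((ml F L z) ^ i) x = x → x = 0 := by
    intro i h0 h1 x hx
    rw [← map_pow, ml_apply] at hx
    have h5 : z ^ i ≠ 1 := by
      intro h
      have := Nat.le_of_dvd h0 (orderOf_dvd_of_pow_eq_one h)
      omega
    have h7 : (((z ^ i : Lˣ) : L) - 1) * x = 0 := by rw [sub_mul, hx, one_mul, sub_self]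
    rcases mul_eq_zero.1 h7 with h | h
    · exact absurd (Units.ext (sub_eq_zero.1 h)) h5
    · exact h
  obtain ⟨hspin, hP⟩ := spin_of_free h2 hQ hfr hd hg hord hfree (Or.inr (by rw [hq]))
  -- the inverting isometry
  let y : L ≃ₗ[F] L := σ.toLinearEquiv
  have hyap : ∀ x, y x = σ x := fun _ => rfl
  have hy : y ∈ O (qf B) := by
    apply mem_O_qf
    intro u v
    rw [hB, hB, hyap, hyap, ← map_mul]
    exact Algebra.trace_eq_of_algEquiv σ _
  have hσz : σ (z : L) = ((z⁻¹ : Lˣ) : L) := by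
    rw [← mul_right_inj' z.ne_zero, hzz, Units.mul_inv]
  have hyg : y * ml F L z * y⁻¹ = (ml F L z)⁻¹ := by
    rw [mul_inv_eq_iff_eq_mul, ← map_inv]
    ext x
    show σ ((z : L) * x) = ((z⁻¹ : Lˣ) : L) * σ x
    rw [map_mul, hσz]
  have hdety : LinearEquiv.det y = (-1) ^ d := by
    have hκ : (z : L) - ((z⁻¹ : Lˣ) : L) ≠ 0 := by
      intro h3
      have h4 : z = z⁻¹ := Units.ext (sub_eq_zero.1 h3)
      have h5 : z ^ 2 = 1 := by
        rw [pow_two]
        nth_rewrite 2 [h4]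
        exact mul_inv_cancel z
      have h6 := Nat.le_of_dvd (by norm_num) (orderOf_dvd_of_pow_eq_one h5)
      rw [hzord] at h6
      omega
    apply Units.ext
    rw [LinearEquiv.coe_det]
    have h3 := det_of_anti (F := F) h2 (s := (y : L →ₗ[F] L)) (k := LinearMap.mulLeft F ((z : L) - ((z⁻¹ : Lˣ) : L)))
      (fun v => hσσ v) (fun a b hab => mul_left_cancel₀ hκ hab) (fun v => by
        show σ (((z : L) - ((z⁻¹ : Lˣ) : L)) * v) = -(((z : L) - ((z⁻¹ : Lˣ) : L)) * σ v)
        have h6 : σ ((z⁻¹ : Lˣ) : L) = z := by rw [← hσz, hσσ]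
        rw [map_mul, map_sub, hσz, h6]
        ring) hfr
    rw [h3]
    simp only [_root_.Units.val_pow_eq_pow_val, _root_.Units.val_neg, _root_.Units.val_one]
  have := TM.of hQ (hP (by rw [hq])) (g := ml F L z) ⟨hg, hdet, hspin⟩ hy hyg hfr hdety
  rwa [hord] at this

/-- **The nonsplit torus.** -/
theorem tm_nonsplit (h2 : (2 : F) ≠ 0) {d : ℕ} (hd : d ≠ 0) : TM F d (Fintype.card F ^ d + 1) := by
  obtain ⟨p, hpF⟩ := CharP.exists F
  have hp : Fact p.Prime := ⟨CharP.char_is_prime F p⟩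
  have : NeZero (2 * d) := ⟨by omega⟩
  refine nonsplit_aux h2 rfl hd (L := FiniteField.Extension F p (2 * d)) (FiniteField.finrank_extension F p (2 * d))
    (by rw [FiniteField.natCard_extension, Nat.card_eq_fintype_card])
    (FiniteField.Extension.frob F p (2 * d) ^ d) ?_
  intro x
  have := FiniteField.Extension.frob_iterate_apply F p (2 * d) d (x := x)
  rw [Nat.card_eq_fintype_card] at this
  exact this

end Tor

section Final

variable {F : Type*} [Field F] [Fintype F] [DecidableEq F]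

/-- the element: a power of the generator -/
theorem elt_of_gen {V : Type*} [AddCommGroup V] [Module F V] [FiniteDimensional F V] [Finite V] {Q : QuadraticForm F V}
    {g y : V ≃ₗ[F] V} {N : ℕ} (hg : El Q (-1) g) (ho : orderOf g = N) (hyg : y * g * y⁻¹ = g⁻¹)
    (hN : N ≠ 0) {v : ℕ} (hvN : v ∣ N) :
    ∃ x : V ≃ₗ[F] V, x ∈ O Q ∧ orderOf x = v ∧ y * x * y⁻¹ = x⁻¹ ∧ g * x = x * g := by
  obtain ⟨hgO, -, -⟩ := hg
  refine ⟨g ^ (N / v), (O Q).pow_mem hgO _, ?_, ?_, ?_⟩
  · rw [← ho] at hvN hN ⊢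
    exact orderOf_pow_orderOf_div hN hvN
  · rw [← conj_pow, hyg, inv_pow]
  · rw [← pow_succ', ← pow_succ]

theorem cls_mul {c d : ℤ} (hc : c = 1 ∨ c = -1) (hd : d = 1 ∨ d = -1) : c * d = 1 ∨ c * d = -1 := by
  rcases hc with rfl | rfl <;> rcases hd with rfl | rfl <;> norm_num

/-- **blocks** : complement of dimension at least two -/
theorem rq_block (h2 : (2 : F) ≠ 0) {d N v : ℕ} (h : TT F d N) (hN : N ≠ 0) (hv : Odd v) (hvN : v ∣ N)
    {V : Type*} [AddCommGroup V] [Module F V] [FiniteDimensional F V] [Finite V] {Q : QuadraticForm F V}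
    (hQ : Nondeg Q) (hd : 2 * d + 2 ≤ finrank F V) : RQ Q v := by
  obtain ⟨Q₁, g, y, hQ₁, hg, ho, hy, hyg⟩ := h
  obtain ⟨x, hxO, hxv, hyx, hgx⟩ := elt_of_gen hg ho hyg hN hvN
  obtain ⟨m, hm⟩ : ∃ m, finrank F V = 2 * d + (m + 1 + 1) := ⟨finrank F V - 2 * d - 2, by omega⟩
  obtain ⟨Q₀, hQ₀, hdc₀⟩ := exists_form h2 (cls_mul (dc_cases hQ) (dc_cases hQ₁)) (m + 1)
  have hnd := nondeg_prod hQ₁ hQ₀
  have hdc1 : dc Q₁ * dc Q₁ = 1 := by
    rcases dc_cases hQ₁ with h | h <;> rw [h] <;> norm_num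
  obtain ⟨e, he⟩ := exists_iso h2 hnd hQ (by rw [hm]; simp only [_root_.Module.finrank_prod, _root_.Module.finrank_fintype_fun_eq_card, _root_.Fintype.card_fin, _root_.Nat.add_left_cancel_iff]) (by
    rw [dc_prod, hdc₀, mul_comm (dc Q), ← mul_assoc, hdc1, one_mul])
  refine RQ.cj ?_ he
  obtain ⟨⟨w, hw⟩, w', hw', hw''⟩ := Cfsg.Agent.ClassicalGeometry.Universal.exists_isSquare_and_not h2 Q₀
    (nondeg_bilin hQ₀) (by simp)
  have hw0 : Q₀ w ≠ 0 := by rw [hw]; exact one_ne_zero
  classical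
  refine rq_adjust hnd (x := pr x 1) (y := pr y 1) hv (pr_mem_O hxO (O Q₀).one_mem)
    (pr_mem_O hy (O Q₀).one_mem) (by rw [orderOf_pr, hxv, orderOf_one, Nat.lcm_one_right]) ?_ (Or.inr ?_) ?_
  · have h1 := congrArg (fun t => pr t (1 : (Fin (m + 1 + 1) → F) ≃ₗ[F] (Fin (m + 1 + 1) → F))) hyx
    exact h1
  · refine ⟨pr 1 (refl Q₀ w hw0), pr_mem_O (O Q₁).one_mem (refl_mem_O hw0), ?_, ?_⟩
    · rw [det_pr, map_one, one_mul, det_refl]
    · rw [← pr_mul, ← pr_mul, one_mul, mul_one, one_mul, mul_one]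
  · refine ⟨pr 1 (refl Q₀ w hw0 * refl Q₀ w' hw'), ?_, ?_⟩
    · have h1 : El Q₀ (-1) (refl Q₀ w hw0 * refl Q₀ w' hw') := by
        refine ⟨(O Q₀).mul_mem (refl_mem_O hw0) (refl_mem_O hw'), ?_, ?_⟩
        · rw [map_mul, det_refl, det_refl, neg_mul_neg, one_mul]
        · have h3 : (⟨refl Q₀ w hw0 * refl Q₀ w' hw', (O Q₀).mul_mem (refl_mem_O hw0) (refl_mem_O hw')⟩ : O Q₀) =
              ⟨refl Q₀ w hw0, refl_mem_O hw0⟩ * ⟨refl Q₀ w' hw', refl_mem_O hw'⟩ := rfl
          rw [h3, map_mul, spin_refl h2, spin_refl h2, if_pos (by rw [hw]; exact IsSquare.one), if_neg hw'', mul_one]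
      have h3 := El.pr h2 hQ₁ hQ₀ (El.one Q₁) h1
      rwa [one_mul] at h3
    · rw [← pr_mul, ← pr_mul, one_mul, mul_one, one_mul, mul_one]

/-- complement of dimension one -/
theorem rq_odd (h2 : (2 : F) ≠ 0) {d N v : ℕ} (h : TT F d N) (hN : N ≠ 0) (hv : Odd v) (hvN : v ∣ N)
    {V : Type*} [AddCommGroup V] [Module F V] [FiniteDimensional F V] [Finite V] {Q : QuadraticForm F V}
    (hQ : Nondeg Q) (hd : finrank F V = 2 * d + 1) : RQ Q v := by
  obtain ⟨Q₁, g, y, hQ₁, hg, ho, hy, hyg⟩ := h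
  obtain ⟨x, hxO, hxv, hyx, hgx⟩ := elt_of_gen hg ho hyg hN hvN
  obtain ⟨Q₀, hQ₀, hdc₀⟩ := exists_form h2 (cls_mul (dc_cases hQ) (dc_cases hQ₁)) 0
  have hnd := nondeg_prod hQ₁ hQ₀
  have hdc1 : dc Q₁ * dc Q₁ = 1 := by
    rcases dc_cases hQ₁ with h | h <;> rw [h] <;> norm_num
  obtain ⟨e, he⟩ := exists_iso h2 hnd hQ (by rw [hd]; simp only [_root_.Nat.reduceAdd, _root_.Module.finrank_prod, _root_.Module.finrank_fintype_fun_eq_card, _root_.Fintype.card_fin, _root_.Fintype.card_unique, _root_.Nat.add_left_cancel_iff]) (by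
    rw [dc_prod, hdc₀, mul_comm (dc Q), ← mul_assoc, hdc1, one_mul])
  refine RQ.cj ?_ he
  refine rq_adjust hnd (x := pr x 1) (y := pr y 1) hv (pr_mem_O hxO (O Q₀).one_mem)
    (pr_mem_O hy (O Q₀).one_mem) (by rw [orderOf_pr, hxv, orderOf_one, Nat.lcm_one_right]) ?_ (Or.inr ?_) ?_
  · have h1 := congrArg (fun t => pr t (1 : (Fin (0 + 1) → F) ≃ₗ[F] (Fin (0 + 1) → F))) hyx
    exact h1
  · refine ⟨pr 1 (LinearEquiv.neg F), pr_mem_O (O Q₁).one_mem (neg_mem_O Q₀), ?_, ?_⟩
    · rw [det_pr, map_one, one_mul]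
      apply Units.ext
      rw [LinearEquiv.coe_det]
      have h3 : ((LinearEquiv.neg F : (Fin (0 + 1) → F) ≃ₗ[F] (Fin (0 + 1) → F)) :
          (Fin (0 + 1) → F) →ₗ[F] (Fin (0 + 1) → F)) = (-1 : F) • LinearMap.id := by
        ext x
        simp
      rw [h3, LinearMap.det_smul, LinearMap.det_id]
      simp
    · rw [← pr_mul, ← pr_mul, one_mul, mul_one, one_mul, mul_one]
  · refine ⟨pr g 1, ?_, ?_⟩
    · have h3 := El.pr h2 hQ₁ hQ₀ hg (El.one Q₀)
      rwa [mul_one] at h3
    · rw [← pr_mul, ← pr_mul, hgx]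

/-- minus type, `d` even -/
theorem rq_minus {d N v : ℕ} (h : TM F d N) (hde : Even d) (hN : N ≠ 0) (hv : Odd v) (hvN : v ∣ N)
    {V : Type*} [AddCommGroup V] [Module F V] [FiniteDimensional F V] [Finite V] {Q : QuadraticForm F V}
    (hQ : Nondeg Q) (hP : ¬ Cfsg.Agent.H955.IsPlus Q) (hd : finrank F V = 2 * d) (hd0 : d ≠ 0) : RQ Q v := by
  obtain ⟨Q₁, g, y, hQ₁, hP₁, hg, ho, hy, hdet, hyg⟩ := h
  obtain ⟨x, hxO, hxv, hyx, hgx⟩ := elt_of_gen hg ho hyg hN hvN
  obtain ⟨m, rfl⟩ : ∃ m, d = m + 1 := ⟨d - 1, by omega⟩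
  obtain ⟨a, b, hab⟩ := Cfsg.Agent.H955.exists_aniso_coeff F
  obtain ⟨e₁, he₁⟩ := Cfsg.Agent.H955.exists_minus_equiv hab m Q₁ hQ₁ (by simp) hP₁
  obtain ⟨e₂, he₂⟩ := Cfsg.Agent.H955.exists_minus_equiv hab m Q hQ hd hP
  refine RQ.cj (e := e₁.trans e₂.symm) (Q := Q₁) ?_ ?_
  · exact rq_adjust hQ₁ hv hxO hy hxv hyx (Or.inl (by rw [hdet, hde.neg_one_pow])) ⟨g, hg, hgx⟩
  · intro w
    show Q (e₂.symm (e₁ w)) = Q₁ w
    rw [← he₂, LinearEquiv.apply_symm_apply, he₁]

variable {ι : Type} [Fintype ι] [DecidableEq ι]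

/-- **`v ∣ q ^ d - 1` or `v ∣ q ^ d + 1`, and the dimension is at least `2 d + 1`.** -/
theorem realP_omega {F : Type*} [Field F] [Fintype F] (h2 : (2 : F) ≠ 0) {Q : QuadraticForm F (ι → F)} (hQ : Nondeg Q)
    (h5 : 5 ≤ Fintype.card ι) {d v : ℕ} (hd : d ≠ 0) (hv : Odd v)
    (hvd : v ∣ Fintype.card F ^ d - 1 ∨ v ∣ Fintype.card F ^ d + 1) (hdim : 2 * d + 1 ≤ Fintype.card ι) :
    RealP (Cfsg.POmega F ⇑Q) v := by
  classical
  have hq : 1 < Fintype.card F ^ d := Nat.one_lt_pow hd Fintype.one_lt_card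
  have key : ∀ N : ℕ, N ≠ 0 → v ∣ N → TT F d N → RealP (Cfsg.POmega F ⇑Q) v := by
    intro N hN hvN h
    refine realP_pomega h2 hQ h5 hv ?_
    rcases Nat.lt_or_ge (2 * d + 1) (Fintype.card ι) with h1 | h1
    · exact rq_block h2 h hN hv hvN hQ (by rw [finrank_fintype_fun_eq_card]; omega)
    · exact rq_odd h2 h hN hv hvN hQ (by rw [finrank_fintype_fun_eq_card]; omega)
  rcases hvd with h | h
  · exact key _ (by omega) h (tt_split h2 hd)
  · exact key _ (by omega) h (tm_nonsplit h2 hd).tt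

/-- **minus type in dimension `2 d`, `d` even, `v ∣ q ^ d + 1`.** -/
theorem realP_omega_minus {F : Type*} [Field F] [Fintype F] (h2 : (2 : F) ≠ 0) {Q : QuadraticForm F (ι → F)}
    (hQ : Nondeg Q) (hP : ¬ Cfsg.Agent.H955.IsPlus Q) (h5 : 5 ≤ Fintype.card ι) {d v : ℕ} (hde : Even d) (hv : Odd v)
    (hvd : v ∣ Fintype.card F ^ d + 1) (hdim : Fintype.card ι = 2 * d) : RealP (Cfsg.POmega F ⇑Q) v := by
  classical
  have hd : d ≠ 0 := by rintro rfl; omega
  exact realP_pomega h2 hQ h5 hv (rq_minus (tm_nonsplit h2 hd) hde (by omega) hv hvd hQ hP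
    (by rw [finrank_fintype_fun_eq_card, hdim]) hd)

end Final

section Names

variable {F : Type} [Field F] [Fintype F]

theorem not_isPlus_minusForm (m : ℕ) {a b : F}
    (hab : ∀ z₁ z₂ : F, z₁ ^ 2 + a * z₁ * z₂ + b * z₂ ^ 2 = 0 → z₁ = 0 ∧ z₂ = 0) :
    ¬ Cfsg.Agent.H955.IsPlus (minusForm m F a b) := by
  intro hP
  have h1 := Cfsg.Agent.H955.card_minus_one m hab
  have h2 := Cfsg.Agent.H955.card_eq_one_of_isPlus (nondeg_minusForm m F a b hab) (m := m + 1) (by simp only [_root_.Module.finrank_fintype_fun_eq_card, _root_.Fintype.card_sum, _root_.Fintype.card_fin]; ring) hP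
  have h3 : 0 < Nat.card F ^ (m + 1) := pow_pos Nat.card_pos _
  rw [coe_minusForm] at h2
  rw [LieClassical.QuadForms.coe_minusForm] at h1
  rw [h1] at h2
  have h4 : ∀ A B : ℕ, 0 < B → A + B + B = A → False := by intro A B hB h; omega
  exact h4 _ _ h3 h2

/-- `Ω_{2m+1}(q)` : `v` odd, `v ∣ q ^ d ± 1`, `d ≤ m` -/
theorem realP_oodd (h2 : (2 : F) ≠ 0) {m d v : ℕ} (hm : 2 ≤ m) (hd : d ≠ 0) (hdm : d ≤ m) (hv : Odd v)
    (hvd : v ∣ Fintype.card F ^ d - 1 ∨ v ∣ Fintype.card F ^ d + 1) : RealP (Cfsg.POmega F (Cfsg.quadFormOdd m F)) v := by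
  rw [← coe_oddForm]
  refine realP_omega h2 (nondeg_oddForm m F h2) ?_ hd hv hvd ?_
  · simp only [Fintype.card_sum, Fintype.card_unit, Fintype.card_fin]; omega
  · simp only [Fintype.card_sum, Fintype.card_unit, Fintype.card_fin]; omega

/-- `PΩ⁺_{2m}(q)` : `v` odd, `v ∣ q ^ d ± 1`, `d < m` -/
theorem realP_oplus (h2 : (2 : F) ≠ 0) {m d v : ℕ} (hm : 3 ≤ m) (hd : d ≠ 0) (hdm : d < m) (hv : Odd v)
    (hvd : v ∣ Fintype.card F ^ d - 1 ∨ v ∣ Fintype.card F ^ d + 1) :
    RealP (Cfsg.POmega F (Cfsg.quadFormPlus m F)) v := by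
  rw [← coe_plusForm]
  refine realP_omega h2 (nondeg_plusForm m F) ?_ hd hv hvd ?_
  · simp only [Fintype.card_sum, Fintype.card_fin]; omega
  · simp only [Fintype.card_sum, Fintype.card_fin]; omega

/-- `PΩ⁻_{2m}(q)` : `v` odd, `v ∣ q ^ d ± 1`, `d < m` -/
theorem realP_ominus (h2 : (2 : F) ≠ 0) {m d v : ℕ} {a b : F}
    (hab : ∀ z₁ z₂ : F, z₁ ^ 2 + a * z₁ * z₂ + b * z₂ ^ 2 = 0 → z₁ = 0 ∧ z₂ = 0) (hm : 3 ≤ m) (hd : d ≠ 0)
    (hdm : d < m) (hv : Odd v) (hvd : v ∣ Fintype.card F ^ d - 1 ∨ v ∣ Fintype.card F ^ d + 1) :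
    RealP (Cfsg.POmega F (Cfsg.quadFormMinus (m - 1) F a b)) v := by
  rw [← coe_minusForm]
  refine realP_omega h2 (nondeg_minusForm (m - 1) F a b hab) ?_ hd hv hvd ?_
  · simp only [Fintype.card_sum, Fintype.card_fin]; omega
  · simp only [Fintype.card_sum, Fintype.card_fin]; omega

/-- `PΩ⁻_{2m}(q)`, `m` even : `v` odd, `v ∣ q ^ m + 1` -/
theorem realP_ominus_even (h2 : (2 : F) ≠ 0) {m v : ℕ} {a b : F}
    (hab : ∀ z₁ z₂ : F, z₁ ^ 2 + a * z₁ * z₂ + b * z₂ ^ 2 = 0 → z₁ = 0 ∧ z₂ = 0) (hm : 3 ≤ m) (hme : Even m)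
    (hv : Odd v) (hvd : v ∣ Fintype.card F ^ m + 1) :
    RealP (Cfsg.POmega F (Cfsg.quadFormMinus (m - 1) F a b)) v := by
  rw [← coe_minusForm]
  refine realP_omega_minus h2 (nondeg_minusForm (m - 1) F a b hab) ?_ ?_ hme hv hvd ?_
  · exact not_isPlus_minusForm (m - 1) hab
  · simp only [Fintype.card_sum, Fintype.card_fin]; omega
  · simp only [Fintype.card_sum, Fintype.card_fin]; omega

end Names

end Cfsg.Agent.H453.OddM

private theorem dce_702f51bb8a67 : _root_.True := by
  try have : _root_.True := by simp only [_root_.Cfsg.Agent.H160.QSpin.El.congr_simp]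
  exact _root_.True.intro
end
end
end
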